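import Cfsg.Agent.Coprime.HallFT
import Cfsg.Agent.Transfer.Basic
import Cfsg.Agent.OddChar.PF.OddOrder

/-!
Groups whose π-subgroups are 2-closed and whose π′-elements centralise every π-subgroup they normalise: the two
kinds of quotient and the reduction to the simple groups.
-/

set_option autoImplicit false
set_option linter.unusedSectionVars false
set_option linter.style.haveILetI false

namespace Cfsg.Lib.PiHomog

open Subgroup Cfsg.Lib.Coprime
open scoped Pointwise

universe u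

variable {π : Set ℕ} {G : Type u} [Group G] [Finite G]

/-- `H` is a π-subgroup. -/
def IsPi (π : Set ℕ) (H : Subgroup G) : Prop := ∀ p : ℕ, p.Prime → p ∣ Nat.card H → p ∈ π

/-- `x` is a π′-element. -/
def PiPrime (π : Set ℕ) (x : G) : Prop := ∀ p : ℕ, p.Prime → p ∣ orderOf x → p ∉ π

/-- The π′-elements form a subgroup. -/
def Closed (π : Set ℕ) (G : Type u) [Group G] : Prop := ∃ K : Subgroup G, ∀ x : G, x ∈ K ↔ PiPrime π x

/-- `N(H)/C(H)` is a π-group for every π-subgroup `H`. -/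
def Hom (π : Set ℕ) (G : Type u) [Group G] : Prop :=
  ∀ H : Subgroup G, IsPi π H → ∀ p : ℕ, p.Prime → p ∉ π → ∀ x ∈ normalizer (H : Set G),
    (∃ k, orderOf x = p ^ k) → x ∈ centralizer (H : Set G)

/-- The hypotheses. -/
structure Hyp (π : Set ℕ) (G : Type u) [Group G] : Prop where
  two : 2 ∈ π
  cl : ∀ H : Subgroup G, IsPi π H → ∀ P : Sylow 2 H, (P : Subgroup H).Normal
  hom : Hom π G

theorem isPi_of_dvd {H : Subgroup G} {H' : Type*} [Group H'] {L : Subgroup H'} (h : IsPi π H)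
    (hd : Nat.card L ∣ Nat.card H) : ∀ p : ℕ, p.Prime → p ∣ Nat.card L → p ∈ π :=
  fun p hp hpd => h p hp (hpd.trans hd)

theorem isPi_pGroup {p : ℕ} (hp : p.Prime) (hpπ : p ∈ π) {H : Subgroup G} (h : IsPGroup p H) : IsPi π H := by
  haveI := Fact.mk hp
  obtain ⟨k, hk⟩ := IsPGroup.iff_card.1 h
  intro q hq hd
  rw [hk] at hd
  rwa [(Nat.prime_dvd_prime_iff_eq hq hp).1 (hq.dvd_of_dvd_pow hd)]

theorem isPi_sup {H L : Subgroup G} [H.Normal] (h1 : IsPi π H) (h2 : IsPi π L) : IsPi π (H ⊔ L) :=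
  fun p hp hd => (hp.dvd_mul.1 (hd.trans (Cfsg.Lib.Components.card_sup_dvd_mul H L))).elim (h1 p hp) (h2 p hp)

theorem coprime_of_pi {H : Subgroup G} {n : ℕ} (h : IsPi π H) (hn : ∀ p : ℕ, p.Prime → p ∣ n → p ∉ π) :
    n.Coprime (Nat.card H) :=
  Nat.coprime_of_dvd fun p hp h1 h2 => hn p hp h1 (h p hp h2)

theorem piPrime_one : PiPrime π (1 : G) := fun p hp hd => absurd (orderOf_one (G := G) ▸ hd) hp.not_dvd_one

theorem PiPrime.map {G' : Type*} [Group G'] [Finite G'] {x : G} (h : PiPrime π x) (f : G →* G') :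
    PiPrime π (f x) := fun p hp hd => h p hp (hd.trans (orderOf_map_dvd f x))

theorem PiPrime.of_injective {G' : Type*} [Group G'] [Finite G'] {x : G} (f : G →* G') (hf : Function.Injective f)
    (h : PiPrime π (f x)) : PiPrime π x := fun p hp hd => h p hp (by rwa [orderOf_injective f hf])

theorem card_of_closed {K : Subgroup G} (hK : ∀ x : G, x ∈ K ↔ PiPrime π x) :
    ∀ p : ℕ, p.Prime → p ∣ Nat.card K → p ∉ π := by
  intro p hp hd
  haveI := Fact.mk hp
  obtain ⟨x, hx⟩ := exists_prime_orderOf_dvd_card' p hd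
  exact (hK x).1 x.2 p hp (by rw [orderOf_coe, hx])

/-- A π′-element normalising a π-subgroup centralises it. -/
theorem Hom.centralise (h : Hom π G) {H : Subgroup G} (hH : IsPi π H) {x : G}
    (hx : x ∈ normalizer (H : Set G)) (hπ : PiPrime π x) : x ∈ centralizer (H : Set G) := by
  set N := normalizer (H : Set G)
  set C := (centralizer (H : Set G)).subgroupOf N
  haveI : C.Normal := normal_subgroupOf_of_le_normalizer fun g hg => by
    have hg' : g ∈ normalizer (H : Set G) := hg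
    refine mem_normalizer_iff.2 fun y => ?_
    have key : ∀ {g y : G}, g ∈ normalizer (H : Set G) → y ∈ centralizer (H : Set G) →
        g * y * g⁻¹ ∈ centralizer (H : Set G) := fun {g y} hg hy => mem_centralizer_iff.2 fun a ha => by
      have h1 := mem_centralizer_iff.1 hy (g⁻¹ * a * g)
        (by simpa using (mem_normalizer_iff.1 (inv_mem hg) a).1 ha)
      calc a * (g * y * g⁻¹) = g * (g⁻¹ * a * g * y) * g⁻¹ := by group
        _ = g * (y * (g⁻¹ * a * g)) * g⁻¹ := by rw [h1]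
        _ = _ := by group
    refine ⟨key hg', fun hy => ?_⟩
    have h2 := key (inv_mem hg') hy
    rwa [show g⁻¹ * (g * y * g⁻¹) * g⁻¹⁻¹ = y by group] at h2
  by_contra hxC
  set q : N ⧸ C := ((⟨x, hx⟩ : N) : N ⧸ C)
  have hq1 : q ≠ 1 := fun e => hxC (mem_subgroupOf.1 ((QuotientGroup.eq_one_iff _).1 e))
  obtain ⟨p, hp, hpd⟩ := Nat.exists_prime_and_dvd (mt orderOf_eq_one_iff.1 hq1)
  haveI := Fact.mk hp
  have hd : orderOf q ∣ orderOf x := (orderOf_map_dvd (QuotientGroup.mk' C) _).trans (Subgroup.orderOf_mk x hx).dvd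
  obtain ⟨a, b, ha, -, hab, ⟨k, hk⟩, hb⟩ := Cfsg.Lib.Transfer.exists_pPart p (⟨x, hx⟩ : N)
  have haC : a ∈ C := mem_subgroupOf.2
    (h H hH p hp (hπ p hp (hpd.trans hd)) a a.2 ⟨k, by rw [orderOf_coe, hk]⟩)
  have hqb : q = (b : N ⧸ C) := by
    show ((⟨x, hx⟩ : N) : N ⧸ C) = _
    rw [← hab, QuotientGroup.mk_mul, (QuotientGroup.eq_one_iff a).2 haC, one_mul]
  exact (hp.coprime_iff_not_dvd.1 hb.symm) (hpd.trans (hqb ▸ orderOf_map_dvd (QuotientGroup.mk' C) b))

theorem Hyp.centralise (h : Hyp π G) {H : Subgroup G} (hH : IsPi π H) {x : G}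
    (hx : x ∈ normalizer (H : Set G)) (hπ : PiPrime π x) : x ∈ centralizer (H : Set G) :=
  h.hom.centralise hH hx hπ

theorem Hom.subgroup (h : Hom π G) (M : Subgroup G) : Hom π M := by
  intro H hH p hp hpπ x hx hk
  obtain ⟨k, hk⟩ := hk
  have hxn : (x : G) ∈ normalizer (H.map M.subtype : Set G) :=
    le_normalizer_map M.subtype (mem_map_of_mem _ hx)
  have hc := h (H.map M.subtype) (fun q hq hd => hH q hq (by
    rwa [card_map_of_injective M.subtype_injective] at hd)) p hp hpπ x hxn ⟨k, by rw [orderOf_coe, hk]⟩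
  exact mem_centralizer_iff.2 fun a ha =>
    Subtype.ext (mem_centralizer_iff.1 hc a (mem_map_of_mem M.subtype ha))

theorem Hyp.subgroup (h : Hyp π G) (M : Subgroup G) : Hyp π M := by
  refine ⟨h.two, fun H hH P => ?_, h.hom.subgroup M⟩
  · haveI : Fact (Nat.Prime 2) := ⟨Nat.prime_two⟩
    let e := H.equivMapOfInjective M.subtype M.subtype_injective
    have hn := h.cl (H.map M.subtype) (fun q hq hd => hH q hq (by
      rwa [card_map_of_injective M.subtype_injective] at hd)) (P.mapSurjective (f := e.toMonoidHom) e.surjective)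
    refine ⟨fun u hu g => ?_⟩
    obtain ⟨u', hu', he⟩ := hn.conj_mem (e u) (mem_map_of_mem e.toMonoidHom hu) (e g)
    rw [← map_inv e g, ← map_mul, ← map_mul] at he
    exact (e.injective he) ▸ hu'

theorem sylow_normal_image {H : Type*} [Group H] [Finite H] {H' : Type*} [Group H'] [Finite H'] (f : H →* H')
    (hf : Function.Surjective f) (hn : ∀ P : Sylow 2 H, (P : Subgroup H).Normal) (Q : Sylow 2 H') :
    (Q : Subgroup H').Normal := by
  haveI : Fact (Nat.Prime 2) := ⟨Nat.prime_two⟩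
  obtain ⟨P⟩ := (inferInstance : Nonempty (Sylow 2 H))
  have hP' : ((P.mapSurjective hf : Sylow 2 H') : Subgroup H').Normal := by
    exact (hn P).map f hf
  obtain ⟨g, hg⟩ := MulAction.exists_smul_eq H' (P.mapSurjective hf) Q
  rw [← hg, Sylow.smul_eq_of_normal]
  exact hP'

/-- An element of prime power order of a quotient lifts to one, inside a given subgroup. -/
theorem exists_lift {G' : Type*} [Group G'] [Finite G'] (f : G →* G') {p : ℕ} [hp : Fact p.Prime] {y : G}
    (h : ∃ k, orderOf (f y) = p ^ k) :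
    ∃ a ∈ zpowers y, f a = f y ∧ ∃ k, orderOf a = p ^ k := by
  obtain ⟨a, b, ha, hb, hab, ⟨k, hk⟩, hbp⟩ := Cfsg.Lib.Transfer.exists_pPart p y
  refine ⟨a, ha, ?_, k, hk⟩
  obtain ⟨j, hj⟩ := mem_zpowers_iff.1 hb
  obtain ⟨i, hi⟩ := h
  have h1 : orderOf (f b) ∣ p ^ i := by
    rw [← hi, ← hj, map_zpow]
    exact orderOf_dvd_of_mem_zpowers (zpow_mem (mem_zpowers _) j)
  have h2 : f b = 1 := orderOf_eq_one_iff.1 (Nat.eq_one_of_dvd_coprimes (Nat.Coprime.pow_left i hbp.symm) h1
    (orderOf_map_dvd f b))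
  rw [← hab, map_mul, h2, mul_one]

theorem Hom.quot_pi (h : Hom π G) (N : Subgroup G) [N.Normal] (hN : IsPi π N) : Hom π (G ⧸ N) := by
  set f := QuotientGroup.mk' N
  have hpre : ∀ H : Subgroup (G ⧸ N), IsPi π H → IsPi π (H.comap f) := fun H hH p hp hd => by
    rw [card_comap_mk'] at hd
    exact (hp.dvd_mul.1 hd).elim (hN p hp) (hH p hp)
  intro H hH p hp hpπ x hx hk
  haveI := Fact.mk hp
  obtain ⟨y, rfl⟩ := QuotientGroup.mk'_surjective N x
  obtain ⟨a, -, hfa, hka⟩ := exists_lift f hk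
  have hn : a ∈ normalizer (H.comap f : Set G) :=
    le_normalizer_comap f (mem_comap.2 (show f a ∈ normalizer (H : Set (G ⧸ N)) by rw [hfa]; exact hx))
  have hc := h _ (hpre H hH) p hp hpπ a hn hka
  refine mem_centralizer_iff.2 fun b hb => ?_
  obtain ⟨b, rfl⟩ := QuotientGroup.mk'_surjective N b
  show f b * f y = f y * f b
  rw [← hfa, ← map_mul, ← map_mul, mem_centralizer_iff.1 hc b (mem_comap.2 hb)]

theorem Hyp.quot_pi (h : Hyp π G) (N : Subgroup G) [N.Normal] (hN : IsPi π N) : Hyp π (G ⧸ N) := by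
  set f := QuotientGroup.mk' N
  have hpre : ∀ H : Subgroup (G ⧸ N), IsPi π H → IsPi π (H.comap f) := fun H hH p hp hd => by
    rw [card_comap_mk'] at hd
    exact (hp.dvd_mul.1 hd).elim (hN p hp) (hH p hp)
  refine ⟨h.two, fun H hH Q => ?_, h.hom.quot_pi N hN⟩
  · refine sylow_normal_image (f.subgroupComap H) ?_ (h.cl _ (hpre H hH)) Q
    exact MonoidHom.subgroupComap_surjective_of_surjective f H (QuotientGroup.mk'_surjective N)

/-- A π-subgroup of the quotient by a π′-subgroup lifts. -/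
theorem exists_pi_lift (N : Subgroup G) [N.Normal] (hN : ∀ p : ℕ, p.Prime → p ∣ Nat.card N → p ∉ π)
    {H : Subgroup (G ⧸ N)} (hH : IsPi π H) : ∃ L : Subgroup G,
      IsPi π L ∧ N ⊔ L = H.comap (QuotientGroup.mk' N) ∧ L.map (QuotientGroup.mk' N) = H ∧
        Nat.card L = Nat.card H := by
  set f := QuotientGroup.mk' N
  have hs : Function.Surjective f := QuotientGroup.mk'_surjective N
  have hle : N ≤ H.comap f := fun x hx => mem_comap.2 (by
    rw [show f x = 1 from (QuotientGroup.eq_one_iff x).2 hx]; exact one_mem _)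
  have hrel : N.relIndex (H.comap f) = Nat.card H := by
    apply Nat.eq_of_mul_eq_mul_left (Nat.card_pos (α := N))
    rw [← card_comap_mk', ← relIndex_bot_left, relIndex_mul_relIndex _ _ _ bot_le hle, relIndex_bot_left]
  obtain ⟨L, -, hsup, hL⟩ := exists_complement_in hle le_normalizer_of_normal (hrel.symm ▸ coprime_of_pi hH hN)
  rw [hrel] at hL
  refine ⟨L, fun p hp hd => hH p hp (hL ▸ hd), hsup, ?_, hL⟩
  have e := congrArg (Subgroup.map f) hsup
  rw [Subgroup.map_sup, map_comap_eq_self_of_surjective hs, QuotientGroup.map_mk'_self, bot_sup_eq] at e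
  exact e

theorem Hom.quot_piPrime (h : Hom π G) (N : Subgroup G) [N.Normal]
    (hN : ∀ p : ℕ, p.Prime → p ∣ Nat.card N → p ∉ π) : Hom π (G ⧸ N) := by
  set f := QuotientGroup.mk' N
  have hs : Function.Surjective f := QuotientGroup.mk'_surjective N
  intro H hH p hp hpπ x hx hk
  haveI := Fact.mk hp
  obtain ⟨y, rfl⟩ := hs x
  obtain ⟨L, hL, hsup, hLH, -⟩ := exists_pi_lift N hN hH
  have hyn : y ∈ normalizer (H.comap f : Set G) := le_normalizer_comap f (mem_comap.2 hx)
  obtain ⟨n, hn, e⟩ := Cfsg.Lib.HallFT.conj_complement Cfsg.Agent.PF.isSolvable_of_odd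
    (le_normalizer_of_normal : L ≤ normalizer (N : Set G)) (coprime_of_pi hL hN)
    (K := L.map (MulAut.conj y).toMonoidHom) (by
      rw [hsup]
      rintro _ ⟨l, hl, rfl⟩
      exact (mem_normalizer_iff.1 hyn l).1 (hsup ▸ mem_sup_right hl))
    (card_map_of_injective (MulAut.conj y).injective)
  have hny : n⁻¹ * y ∈ normalizer (L : Set G) := by
    refine mem_normalizer_iff_map_conj_eq.2 ?_
    have e' : L.map (MulAut.conj y).toMonoidHom = L.map (MulAut.conj n).toMonoidHom := e
    calc L.map (MulAut.conj (n⁻¹ * y)).toMonoidHom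
        = (L.map (MulAut.conj y).toMonoidHom).map (MulAut.conj n⁻¹).toMonoidHom := by
          rw [map_map, map_mul]; rfl
      _ = L := by rw [e', map_map, ← map_id L, map_map]; congr 1; ext a; simp [mul_assoc]
  have hfy : f (n⁻¹ * y) = f y := by
    rw [map_mul, map_inv, show f n = 1 from (QuotientGroup.eq_one_iff n).2 hn, inv_one, one_mul]
  obtain ⟨a, ha, hfa, hka⟩ := exists_lift f (hfy.symm ▸ hk)
  have hc := h L hL p hp hpπ a (zpowers_le.2 hny ha) hka
  refine mem_centralizer_iff.2 fun b hb => ?_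
  rw [← hLH] at hb
  obtain ⟨l, hl, rfl⟩ := hb
  show f l * f y = f y * f l
  rw [← hfy, ← hfa, ← map_mul, ← map_mul, mem_centralizer_iff.1 hc l hl]

theorem Hyp.quot_piPrime (h : Hyp π G) (N : Subgroup G) [N.Normal]
    (hN : ∀ p : ℕ, p.Prime → p ∣ Nat.card N → p ∉ π) : Hyp π (G ⧸ N) := by
  set f := QuotientGroup.mk' N
  have hs : Function.Surjective f := QuotientGroup.mk'_surjective N
  refine ⟨h.two, fun H hH Q => ?_, h.hom.quot_piPrime N hN⟩
  · obtain ⟨L, hL, -, hLH, -⟩ := exists_pi_lift N hN hH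
    subst hLH
    exact sylow_normal_image (f.subgroupMap L) (f.subgroupMap_surjective L) (h.cl L hL) Q

/-- The induction: the simple case suffices. -/
theorem closed_of_simple_gen (P : ∀ (X : Type u) [Group X] [Finite X], Prop)
    (hom : ∀ (X : Type u) [Group X] [Finite X], P X → Hom π X)
    (sub : ∀ (X : Type u) [Group X] [Finite X], P X → ∀ M : Subgroup X, P M)
    (quot : ∀ (X : Type u) [Group X] [Finite X], P X → ∀ (N : Subgroup X) [N.Normal],
      (IsPi π N ∨ ∀ p : ℕ, p.Prime → p ∣ Nat.card N → p ∉ π) → P (X ⧸ N))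
    (hsimple : ∀ (X : Type u) [Group X] [Finite X] [IsSimpleGroup X], ¬ IsMulCommutative X → P X →
      (∀ M : Subgroup X, M ≠ ⊤ → Closed π M) → ¬ (∀ p : ℕ, p.Prime → p ∣ Nat.card X → p ∉ π) → False) :
    ∀ (X : Type u) [Group X] [Finite X], P X → Closed π X := by
  suffices key : ∀ (n : ℕ) (X : Type u) [Group X] [Finite X], Nat.card X = n → P X → Closed π X from
    fun X _ _ h => key _ X rfl h
  intro n
  induction n using Nat.strong_induction_on with
  | _ n ih =>
  intro X _ _ hn h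
  subst hn
  have hsub : ∀ M : Subgroup X, M ≠ ⊤ → Closed π M := fun M hM =>
    ih _ (lt_of_le_of_ne (card_le_card_group M) fun e => hM ((card_eq_iff_eq_top M).1 e)) M rfl (sub X h M)
  by_cases hT : Nontrivial X
  swap
  · rw [not_nontrivial_iff_subsingleton] at hT
    exact ⟨⊤, fun x => ⟨fun _ => Subsingleton.elim 1 x ▸ piPrime_one, fun _ => mem_top x⟩⟩
  by_cases hpi : ∀ p : ℕ, p.Prime → p ∣ Nat.card X → p ∈ π
  · refine ⟨⊥, fun x => ⟨fun hx => mem_bot.1 hx ▸ piPrime_one, fun hx => mem_bot.2 (orderOf_eq_one_iff.1 ?_)⟩⟩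
    by_contra h1
    obtain ⟨p, hp, hd⟩ := Nat.exists_prime_and_dvd h1
    exact hx p hp hd (hpi p hp (hd.trans (orderOf_dvd_natCard x)))
  by_cases hpi' : ∀ p : ℕ, p.Prime → p ∣ Nat.card X → p ∉ π
  · exact ⟨⊤, fun x => ⟨fun _ p hp hd => hpi' p hp (hd.trans (orderOf_dvd_natCard x)), fun _ => mem_top x⟩⟩
  by_cases hN : ∃ N : Subgroup X, N.Normal ∧ N ≠ ⊥ ∧ N ≠ ⊤
  swap
  · push Not at hN
    haveI : IsSimpleGroup X := ⟨fun N hN' => or_iff_not_imp_left.2 (hN N hN')⟩
    refine (hsimple X (fun hc => ?_) h hsub hpi').elim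
    haveI := hc
    letI : CommGroup X := { (inferInstance : Group X) with mul_comm := fun a b => hc.is_comm.comm a b }
    have hp := IsSimpleGroup.prime_card (α := X)
    by_cases hm : Nat.card X ∈ π
    · exact hpi fun q hq hd => by rwa [(Nat.prime_dvd_prime_iff_eq hq hp).1 hd]
    · exact hpi' fun q hq hd => by rwa [(Nat.prime_dvd_prime_iff_eq hq hp).1 hd]
  obtain ⟨N, hNn, hN1, hNtop⟩ := hN
  haveI := hNn
  obtain ⟨K₀, hK₀⟩ := hsub N hNtop
  set K := K₀.map N.subtype
  have hKmem : ∀ x : X, x ∈ K ↔ x ∈ N ∧ PiPrime π x := fun x => by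
    refine ⟨?_, fun ⟨hx, hp⟩ => ⟨⟨x, hx⟩, (hK₀ _).2 (hp.of_injective N.subtype N.subtype_injective), rfl⟩⟩
    rintro ⟨y, hy, rfl⟩
    exact ⟨y.2, ((hK₀ y).1 hy).map _⟩
  haveI : K.Normal := ⟨fun x hx g => (hKmem _).2 ⟨hNn.conj_mem _ ((hKmem x).1 hx).1 g,
    fun p hp hd => ((hKmem x).1 hx).2 p hp (by rwa [show g * x * g⁻¹ = MulAut.conj g x from rfl, MulEquiv.orderOf_eq] at hd)⟩⟩
  by_cases hK1 : K = ⊥
  · -- `N` is a π-group
    have hNpi : IsPi π N := by
      intro p hp hd
      by_contra hpπ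
      haveI := Fact.mk hp
      obtain ⟨x, hx⟩ := exists_prime_orderOf_dvd_card' p hd
      have : (x : X) ∈ K := (hKmem _).2 ⟨x.2, fun q hq hqd => by
        rw [orderOf_coe, hx] at hqd
        rwa [(Nat.prime_dvd_prime_iff_eq hq hp).1 hqd]⟩
      rw [hK1, mem_bot] at this
      rw [show x = 1 from Subtype.ext this, orderOf_one] at hx
      exact hp.ne_one hx.symm
    have hlt : Nat.card (X ⧸ N) < Nat.card X := by
      rw [card_eq_card_quotient_mul_card_subgroup N]
      exact lt_mul_of_one_lt_right Nat.card_pos ((one_lt_card_iff_ne_bot N).2 hN1)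
    obtain ⟨L, hL⟩ := ih _ hlt (X ⧸ N) rfl (quot X h N (Or.inl hNpi))
    set M := L.comap (QuotientGroup.mk' N)
    have hM : ∀ x, PiPrime π x → x ∈ M := fun x hx => mem_comap.2 ((hL _).2 (hx.map _))
    by_cases hMtop : M = ⊤
    · -- the complement centralises `N`
      have hLtop : L = ⊤ := comap_injective (QuotientGroup.mk'_surjective N) (by rw [comap_top]; exact hMtop)
      have hidx : ∀ p : ℕ, p.Prime → p ∣ N.index → p ∉ π := fun p hp hd =>
        card_of_closed hL p hp (by rwa [hLtop, card_top, ← index_eq_card])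
      have hcop : (Nat.card N).Coprime N.index := (coprime_of_pi hNpi hidx).symm
      obtain ⟨C, hC⟩ := exists_right_complement'_of_coprime (N := N) hcop
      have hCcard : Nat.card C = N.index := hC.symm.index_eq_card.symm
      have hCp : ∀ x ∈ C, PiPrime π x := fun x hx p hp hd =>
        hidx p hp (hCcard ▸ hd.trans (Subgroup.orderOf_dvd_natCard _ hx))
      have hcomm : ∀ x ∈ C, ∀ y ∈ N, y * x = x * y := fun x hx =>
        mem_centralizer_iff.1 ((hom X h).centralise hNpi (by rw [normalizer_eq_top]; exact mem_top x) (hCp x hx))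
      refine ⟨C, fun x => ⟨hCp x, fun hx => ?_⟩⟩
      obtain ⟨n, hn, c, hc, rfl⟩ : x ∈ (N : Set X) * (C : Set X) := hC.mul_eq.symm ▸ Set.mem_univ x
      have h1 : Commute n c := hcomm c hc n hn
      have hn1 : n = 1 := by
        rw [← orderOf_eq_one_iff]
        refine Nat.eq_one_of_dvd_coprimes (coprime_of_pi hNpi fun q hq hd => ?_)
          (orderOf_dvd_of_pow_eq_one (?_ : n ^ (orderOf (n * c) * Nat.card C) = 1))
          (Subgroup.orderOf_dvd_natCard _ hn)
        · rcases hq.dvd_mul.1 hd with h' | h'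
          · exact hx q hq h'
          · exact hidx q hq (hCcard ▸ h')
        · have := congrArg (· ^ Nat.card C) (pow_orderOf_eq_one (n * c))
          simp only [one_pow, ← pow_mul] at this
          rw [h1.mul_pow] at this
          rwa [show c ^ (orderOf (n * c) * Nat.card C) = 1 from orderOf_dvd_iff_pow_eq_one.1
            ((Subgroup.orderOf_dvd_natCard _ hc).trans (dvd_mul_left _ _)), mul_one] at this
      show n * c ∈ C
      rw [hn1, one_mul]; exact hc
    · obtain ⟨K', hK'⟩ := hsub M hMtop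
      refine ⟨K'.map M.subtype, fun x => ⟨?_, fun hx =>
        ⟨⟨x, hM x hx⟩, (hK' _).2 (hx.of_injective M.subtype M.subtype_injective), rfl⟩⟩⟩
      rintro ⟨y, hy, rfl⟩
      exact ((hK' y).1 hy).map _
  · have hKp : ∀ p : ℕ, p.Prime → p ∣ Nat.card K → p ∉ π := fun p hp hd =>
      card_of_closed hK₀ p hp (by rwa [card_map_of_injective N.subtype_injective] at hd)
    have hlt : Nat.card (X ⧸ K) < Nat.card X := by
      rw [card_eq_card_quotient_mul_card_subgroup K]
      exact lt_mul_of_one_lt_right Nat.card_pos ((one_lt_card_iff_ne_bot K).2 hK1)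
    obtain ⟨L, hL⟩ := ih _ hlt (X ⧸ K) rfl (quot X h K (Or.inr hKp))
    refine ⟨L.comap (QuotientGroup.mk' K), fun x => ⟨fun hx p hp hd => ?_, fun hx => mem_comap.2 ((hL _).2 (hx.map _))⟩⟩
    have h1 : p ∣ Nat.card (L.comap (QuotientGroup.mk' K)) := hd.trans (Subgroup.orderOf_dvd_natCard _ hx)
    rw [card_comap_mk'] at h1
    exact (hp.dvd_mul.1 h1).elim (hKp p hp) (card_of_closed hL p hp)

/-- The induction for the 2-closed hypotheses. -/
theorem closed_of_simple
    (hsimple : ∀ (X : Type u) [Group X] [Finite X] [IsSimpleGroup X], ¬ IsMulCommutative X → Hyp π X →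
      (∀ M : Subgroup X, M ≠ ⊤ → Closed π M) → False) :
    ∀ (X : Type u) [Group X] [Finite X], Hyp π X → Closed π X :=
  closed_of_simple_gen (fun X _ _ => Hyp π X) (fun _ _ _ h => h.hom) (fun _ _ _ h => h.subgroup)
    (fun _ _ _ h N _ hN => hN.elim (h.quot_pi N) (h.quot_piPrime N))
    fun X _ _ _ hn h hs _ => hsimple X hn h hs

end Cfsg.Lib.PiHomog
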