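import Cfsg.Agent.PiHomog.Fusion
import Cfsg.Agent.BenderSE.Final
import Cfsg.Agent.BenderSE.Dependents.Rows

/-!
No minimal counterexample has a strongly embedded subgroup: an involution outside it inverts a nontrivial
element of it, which gives a dihedral π-subgroup.
-/

set_option autoImplicit false
set_option linter.unusedSectionVars false
set_option linter.style.haveILetI false

namespace Cfsg.Lib.PiHomog

open Subgroup Cfsg.Lib.BenderSE
open scoped Pointwise

universe u

variable {π : Set ℕ} {G : Type u} [Group G] [Finite G]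

/-- No element of odd prime order in π is inverted by an involution. -/
theorem Hyp.no_inverted (h : Hyp π G) {r : ℕ} (hr : r.Prime) (hr2 : r ≠ 2) (hrπ : r ∈ π) {y t : G}
    (hy : orderOf y = r) (ht : orderOf t = 2) (hinv : t * y * t⁻¹ = y⁻¹) : False := by
  haveI : Fact (Nat.Prime 2) := ⟨Nat.prime_two⟩
  have hn : zpowers t ≤ normalizer (zpowers y : Set G) := zpowers_le.2 <|
    CentralFour.mem_normalizer_of_le fun x hx => by
      obtain ⟨i, rfl⟩ := mem_zpowers_iff.1 hx
      rw [← conj_zpow, hinv]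
      exact zpow_mem (inv_mem (mem_zpowers y)) i
  have hcop : (Nat.card (zpowers y)).Coprime (Nat.card (zpowers t)) := by
    rw [Nat.card_zpowers, Nat.card_zpowers, hy, ht]
    exact (Nat.coprime_primes hr Nat.prime_two).2 hr2
  set D := zpowers y ⊔ zpowers t with hD
  have hcard : Nat.card D = r * 2 := by
    rw [hD, Cfsg.Lib.Coprime.card_sup_coprime hn hcop, Nat.card_zpowers, Nat.card_zpowers, hy, ht]
  have hDpi : IsPi π D := fun p hp hd => by
    rw [hcard] at hd
    rcases hp.dvd_mul.1 hd with h' | h'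
    · rwa [(Nat.prime_dvd_prime_iff_eq hp hr).1 h']
    · rw [(Nat.prime_dvd_prime_iff_eq hp Nat.prime_two).1 h']; exact h.two
  have hyD : y ∈ D := mem_sup_left (mem_zpowers y)
  have htD : t ∈ D := mem_sup_right (mem_zpowers t)
  obtain ⟨P, hP⟩ := (IsPGroup.of_card (n := 1) (by rw [Nat.card_zpowers, Subgroup.orderOf_mk, ht, pow_one]) :
    IsPGroup 2 (zpowers (⟨t, htD⟩ : D))).exists_le_sylow
  have hPn := h.cl D hDpi P
  have hP2 : (P : Subgroup D) = zpowers (⟨t, htD⟩ : D) := by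
    refine (eq_of_le_of_card_ge hP ?_).symm
    obtain ⟨k, hk⟩ := IsPGroup.iff_card.1 P.2
    have hd := card_subgroup_dvd_card (P : Subgroup D)
    rw [hk, hcard] at hd
    have h2 : 2 ^ k ∣ 2 := (Nat.Coprime.pow_left k ((Nat.coprime_primes Nat.prime_two hr).2 (Ne.symm hr2))).dvd_of_dvd_mul_left hd
    rw [Nat.card_zpowers, Subgroup.orderOf_mk, ht, hk]
    exact Nat.le_of_dvd two_pos h2
  have h1 := hPn.conj_mem ⟨t, htD⟩ (hP (mem_zpowers _)) ⟨y, hyD⟩
  rw [hP2] at h1
  obtain ⟨i, hi⟩ := mem_zpowers_iff.1 h1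
  have hi' : t ^ i = y * t * y⁻¹ := congrArg Subtype.val hi
  rcases Int.even_or_odd i with ⟨j, rfl⟩ | ⟨j, rfl⟩
  · rw [← two_mul, zpow_mul, zpow_two, ← pow_two, ← ht, pow_orderOf_eq_one, one_zpow] at hi'
    have := conj_eq_one_iff.1 hi'.symm
    rw [this, orderOf_one] at ht
    omega
  · rw [zpow_add, zpow_mul, zpow_two, ← pow_two, ← ht, pow_orderOf_eq_one, one_zpow, one_mul, zpow_one] at hi'
    have hc : y * t = t * y := mul_inv_eq_iff_eq_mul.1 hi'.symm
    rw [← hc, mul_inv_cancel_right] at hinv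
    have : orderOf y ∣ 2 := orderOf_dvd_of_pow_eq_one (by
      rw [pow_two]; conv_lhs => arg 1; rw [hinv]
      exact inv_mul_cancel y)
    rw [hy] at this
    exact hr2 ((Nat.prime_dvd_prime_iff_eq hr Nat.prime_two).1 this)

theorem Min.not_embedded (hm : Min π G) {H : Subgroup G} (hH : Cfsg.IsStronglyEmbedded H)
    (hrank : HasCommutingInvolutions G) : False := by
  classical
  haveI := hm.simple
  have hcore : H.normalCore = ⊥ := (H.normalCore_normal).eq_bot_or_eq_top.resolve_right fun e =>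
    hH.1 (top_le_iff.1 (e ▸ normalCore_le H))
  obtain ⟨L, Q, Fr⟩ := exists_frame regProp ⟨hH, hcore, hrank⟩
  obtain ⟨k, e, hk, he, hQc, hI⟩ := Fr.qcard
  set I := {i : G // orderOf i = 2 ∧ i ∈ H}
  have hI3 : 3 ≤ Nat.card I := by
    have : 4 ≤ 2 ^ k := le_trans (by norm_num) (Nat.pow_le_pow_right (by norm_num) hk)
    omega
  have hodd : ∀ g : G, g ∉ H → ∀ i : I, g * i.1 * g⁻¹ ∉ H := fun g hg i hi => by
    have h1 := hH.2.2 g hg
    have h2 : 2 ∣ Nat.card (H ⊓ H.map (MulAut.conj g).toMonoidHom : Subgroup G) := by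
      have ho : orderOf (g * i.1 * g⁻¹) = 2 := by
        rw [show g * i.1 * g⁻¹ = MulAut.conj g i.1 from rfl, MulEquiv.orderOf_eq, i.2.1]
      exact ho ▸ Subgroup.orderOf_dvd_natCard _ ⟨hi, ⟨i.1, i.2.2, rfl⟩⟩
    exact h1.not_two_dvd_nat h2
  set C := {c : G ⧸ H // c ≠ ((1 : G) : G ⧸ H)}
  have hout : ∀ c : C, c.1.out ∉ H := fun c hc => c.2 (by
    rw [← QuotientGroup.out_eq' c.1]
    exact QuotientGroup.eq.2 (by rw [mul_one]; exact inv_mem hc))
  let t : C × I → G := fun p => p.1.1.out * p.2.1 * p.1.1.out⁻¹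
  have htinj : Function.Injective t := by
    rintro ⟨c, i⟩ ⟨c', i'⟩ hcc
    have hmem : c.1.out⁻¹ * c'.1.out ∈ H := by
      by_contra hn
      refine hodd _ hn i' ?_
      rw [show c.1.out⁻¹ * c'.1.out * i'.1 * (c.1.out⁻¹ * c'.1.out)⁻¹ =
        c.1.out⁻¹ * (c'.1.out * i'.1 * c'.1.out⁻¹) * c.1.out by group, show c'.1.out * i'.1 * c'.1.out⁻¹ = c.1.out * i.1 * c.1.out⁻¹ from hcc.symm]
      rw [show c.1.out⁻¹ * (c.1.out * i.1 * c.1.out⁻¹) * c.1.out = i.1 by group]
      exact i.2.2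
    have hceq : c = c' := Subtype.ext (by
      rw [← QuotientGroup.out_eq' c.1, ← QuotientGroup.out_eq' c'.1]
      exact QuotientGroup.eq.2 hmem)
    subst hceq
    have : i = i' := Subtype.ext (mul_left_cancel (mul_right_cancel (show c.1.out * i.1 * c.1.out⁻¹ = _ from hcc)))
    rw [this]
  haveI : Nonempty C := by
    obtain ⟨g, hg⟩ : ∃ g : G, g ∉ H := by
      by_contra hh
      push Not at hh
      exact hH.1 ((eq_top_iff' H).2 hh)
    exact ⟨⟨(g : G ⧸ H), fun e => hg (by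
      have := QuotientGroup.eq.1 e
      rw [mul_one] at this
      exact inv_mem_iff.1 this)⟩⟩
  let φ : C × I → C := fun p => ⟨((t p : G) : G ⧸ H), fun e => hodd _ (hout p.1) p.2 (by
    have := QuotientGroup.eq.1 e
    rw [mul_one] at this
    exact inv_mem_iff.1 this)⟩
  obtain ⟨p, p', hne, hpp⟩ : ∃ p p', p ≠ p' ∧ φ p = φ p' := by
    by_contra hh
    push Not at hh
    have := Nat.card_le_card_of_injective φ fun a b hab => by_contra fun hn => hh a b hn hab
    rw [Nat.card_prod] at this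
    have hC : 0 < Nat.card C := Nat.card_pos
    nlinarith
  have hto : ∀ p, orderOf (t p) = 2 := fun p => by
    show orderOf (MulAut.conj p.1.1.out p.2.1) = 2
    rw [MulEquiv.orderOf_eq, p.2.2.1]
  have htH : t p ∉ H := hodd _ (hout p.1) p.2
  have htt : t p * t p = 1 := by rw [← pow_two, ← hto p, pow_orderOf_eq_one]
  have htinv : (t p)⁻¹ = t p := inv_eq_of_mul_eq_one_right htt
  set x := t p * t p' with hx
  have hxH : x ∈ H := by
    have := QuotientGroup.eq.1 (congrArg Subtype.val hpp : ((t p : G) : G ⧸ H) = (t p' : G))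
    rwa [htinv] at this
  have hinv : t p * x * (t p)⁻¹ = x⁻¹ := by
    have h2 : t p' * t p' = 1 := by rw [← pow_two, ← hto p', pow_orderOf_eq_one]
    calc t p * x * (t p)⁻¹ = (t p * t p) * t p' * (t p)⁻¹ := by rw [hx]; group
      _ = (t p')⁻¹ * (t p)⁻¹ := by rw [htt, one_mul, inv_eq_of_mul_eq_one_right h2]
      _ = x⁻¹ := (mul_inv_rev _ _).symm
  have hx1 : x ≠ 1 := fun e => hne (htinj (by
    have := eq_inv_of_mul_eq_one_right e
    rw [htinv] at this
    exact this.symm))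
  obtain ⟨r, hr, hrd⟩ := Nat.exists_prime_and_dvd (mt orderOf_eq_one_iff.1 hx1)
  set y := x ^ (orderOf x / r) with hy
  have hyo : orderOf y = r := orderOf_pow_orderOf_div (orderOf_pos x).ne' hrd
  have hyH : y ∈ H := pow_mem hxH _
  have hyinv : t p * y * (t p)⁻¹ = y⁻¹ := by rw [hy, ← conj_pow, hinv, inv_pow]
  have hr2 : r ≠ 2 := by
    rintro rfl
    have hyy : y⁻¹ = y := inv_eq_of_mul_eq_one_right (by rw [← pow_two, ← hyo, pow_orderOf_eq_one])
    have h2 : 2 ∣ Nat.card (H ⊓ H.map (MulAut.conj (t p)).toMonoidHom : Subgroup G) :=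
      hyo ▸ Subgroup.orderOf_dvd_natCard _ ⟨hyH, ⟨y, hyH, hyinv.trans hyy⟩⟩
    exact (hH.2.2 _ htH).not_two_dvd_nat h2
  have hrπ : r ∈ π := by
    by_contra hrπ
    have hQ1 : IsPi π Q := isPi_pGroup Nat.prime_two hm.hyp.two Fr.q2
    have hc := hm.hyp.hom Q hQ1 r hr hrπ y (Fr.qn hyH) ⟨1, by rw [hyo, pow_one]⟩
    have hy1 : y ∈ H.normalCore := fun g => by
      by_cases hg : g ∈ H
      · exact mul_mem (mul_mem hg hyH) (inv_mem hg)
      obtain ⟨u, hu, huH⟩ := Fr.trans (t p) g⁻¹ htH (fun h' => hg (inv_mem_iff.1 h'))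
      rw [inv_inv] at huH
      set h0 := g * (u * t p)
      have : g * y * g⁻¹ = h0 * y⁻¹ * h0⁻¹ := by
        calc g * y * g⁻¹ = g * (u * y * u⁻¹) * g⁻¹ := by
              rw [mem_centralizer_iff.1 hc u hu, mul_inv_cancel_right]
          _ = h0 * ((t p)⁻¹ * y * t p) * h0⁻¹ := by simp only [h0]; group
          _ = _ := by rw [show (t p)⁻¹ * y * t p = y⁻¹ by rw [htinv]; rw [htinv] at hyinv; exact hyinv]
      rw [this]
      exact mul_mem (mul_mem huH (inv_mem hyH)) (inv_mem huH)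
    rw [hcore, mem_bot] at hy1
    rw [hy1, orderOf_one] at hyo
    exact hr.ne_one hyo.symm
  exact hm.hyp.no_inverted hr hr2 hrπ hyo (hto p) hyinv

end Cfsg.Lib.PiHomog
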