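import Cfsg.Agent.PiHomog.Basic
import Cfsg.Agent.CentralIndexFour.Frame

/-!
In a minimal counterexample every proper subgroup is solvable, and the normaliser of a Sylow 2-subgroup
controls the fusion in it.
-/

set_option autoImplicit false
set_option linter.unusedSectionVars false
set_option linter.style.haveILetI false

namespace Cfsg.Lib.PiHomog

open Subgroup
open scoped Pointwise

universe u

variable {π : Set ℕ} {G : Type u} [Group G] [Finite G]

/-- The situation of the minimal counterexample. -/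
structure Min (π : Set ℕ) (G : Type u) [Group G] [Finite G] : Prop where
  hyp : Hyp π G
  simple : IsSimpleGroup G
  nab : ¬ IsMulCommutative G
  proper : ∀ M : Subgroup G, M ≠ ⊤ → Closed π M

/-- A proper subgroup is its π′-core times the normaliser of a Sylow 2-subgroup of it. -/
theorem Min.split (hm : Min π G) {M : Subgroup G} (hM : M ≠ ⊤) (T : Sylow 2 M) :
    (∀ x ∈ M, ∃ o n : G, x = o * n ∧ o ∈ M ∧ PiPrime π o ∧ n ∈ M ∧
      n ∈ normalizer (((T : Subgroup M).map M.subtype : Subgroup G) : Set G)) ∧ Group.IsSolvable M := by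
  haveI : Fact (Nat.Prime 2) := ⟨Nat.prime_two⟩
  obtain ⟨K, hK⟩ := hm.proper M hM
  haveI : K.Normal := ⟨fun x hx g => (hK _).2 fun p hp hd => (hK x).1 hx p hp (by
    rwa [show g * x * g⁻¹ = MulAut.conj g x from rfl, MulEquiv.orderOf_eq] at hd)⟩
  have hKp := card_of_closed hK
  have hq := ((hm.hyp.subgroup M).quot_piPrime K hKp)
  set f := QuotientGroup.mk' K
  have hpi : IsPi π (⊤ : Subgroup (M ⧸ K)) := by
    intro p hp hd
    by_contra hpπ
    haveI := Fact.mk hp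
    rw [card_top] at hd
    obtain ⟨y, hy⟩ := exists_prime_orderOf_dvd_card' p hd
    obtain ⟨x, rfl⟩ := QuotientGroup.mk'_surjective K y
    obtain ⟨a, -, hfa, k, hk⟩ := exists_lift f (p := p) (y := x) ⟨1, by rw [hy, pow_one]⟩
    have haK : a ∈ K := (hK a).2 fun q hq' hd' => by
      rw [hk] at hd'
      rwa [(Nat.prime_dvd_prime_iff_eq hq' hp).1 (hq'.dvd_of_dvd_pow hd')]
    rw [show f a = 1 from (QuotientGroup.eq_one_iff a).2 haK] at hfa
    rw [← hfa, orderOf_one] at hy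
    exact hp.ne_one hy.symm
  set Tq := T.mapSurjective (QuotientGroup.mk'_surjective K) with hTq
  haveI hTn : (Tq : Subgroup (M ⧸ K)).Normal :=
    sylow_normal_image (⊤ : Subgroup (M ⧸ K)).subtype (fun x => ⟨⟨x, mem_top x⟩, rfl⟩) (hq.cl ⊤ hpi) Tq
  set J := K ⊔ (T : Subgroup M) with hJ
  have hJc : (Tq : Subgroup (M ⧸ K)).comap f = J := by
    show ((T : Subgroup M).map f).comap f = J
    rw [comap_map_eq, QuotientGroup.ker_mk', sup_comm]
  haveI : J.Normal := hJc ▸ hTn.comap f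
  refine ⟨fun x hx => ?_, ?_⟩
  · have hfr := Sylow.normalizer_sup_eq_top' (N := J) T le_sup_right
    have hxm : (⟨x, hx⟩ : M) ∈ K ⊔ normalizer ((T : Subgroup M) : Set M) := by
      have : (⟨x, hx⟩ : M) ∈ normalizer ((T : Subgroup M) : Set M) ⊔ J := hfr ▸ mem_top _
      exact (sup_le le_sup_right (sup_le le_sup_left (le_trans le_normalizer le_sup_right))) this
    obtain ⟨o, ho, n, hn, e⟩ := mem_sup_of_normal_left.1 hxm
    refine ⟨o, n, (congrArg Subtype.val e).symm, o.2, ((hK o).1 ho).map M.subtype, n.2, ?_⟩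
    exact le_normalizer_map M.subtype (mem_map_of_mem _ hn)
  · have hKodd : Odd (Nat.card K) := by
      rw [← Nat.not_even_iff_odd, even_iff_two_dvd]
      exact fun hd => hKp 2 Nat.prime_two hd hm.hyp.two
    haveI : Group.IsSolvable K := Cfsg.Agent.PF.isSolvable_of_odd K hKodd
    haveI : Group.IsSolvable (M ⧸ K) := by
      haveI := Tq.2.isNilpotent
      haveI : Group.IsSolvable ((M ⧸ K) ⧸ (Tq : Subgroup (M ⧸ K))) := by
        refine Cfsg.Agent.PF.isSolvable_of_odd _ ?_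
        rw [← index_eq_card, ← Nat.not_even_iff_odd, even_iff_two_dvd]
        exact Tq.not_dvd_index
      exact Group.isSolvable_of_ker_le_range (Tq : Subgroup (M ⧸ K)).subtype (QuotientGroup.mk' (Tq : Subgroup (M ⧸ K)))
        (by rw [QuotientGroup.ker_mk', range_subtype])
    exact Group.isSolvable_of_ker_le_range K.subtype f (by rw [QuotientGroup.ker_mk', range_subtype])

/-- `N_S(R)`. -/
def nS (S : Sylow 2 G) (R : Subgroup G) : Subgroup G := (S : Subgroup G) ⊓ normalizer (R : Set G)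

theorem le_nS {S : Sylow 2 G} {R : Subgroup G} (h : R ≤ (S : Subgroup G)) : R ≤ nS S R := le_inf h le_normalizer

theorem nS_isPGroup (S : Sylow 2 G) (R : Subgroup G) : IsPGroup 2 (nS S R) := S.2.to_le inf_le_left

theorem lt_nS {S : Sylow 2 G} {R : Subgroup G} (h : R < (S : Subgroup G)) : R < nS S R := by
  haveI : Fact (Nat.Prime 2) := ⟨Nat.prime_two⟩
  haveI := S.2.isNilpotent
  have hlt : R.subgroupOf (S : Subgroup G) < ⊤ :=
    lt_top_iff_ne_top.2 fun e => not_le_of_gt h (subgroupOf_eq_top.1 e)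
  obtain ⟨x, hx, hxR⟩ := SetLike.exists_of_lt (Group.normalizerCondition_of_isNilpotent _ hlt)
  refine lt_of_le_of_ne (le_nS h.le) fun e => hxR (mem_subgroupOf.2 ?_)
  rw [← subgroupOf_normalizer_eq h.le] at hx
  rw [e]
  exact ⟨x.2, mem_subgroupOf.1 hx⟩

theorem map_conj_le {R S : Subgroup G} {g : G} : R.map (MulAut.conj g).toMonoidHom ≤ S ↔ ∀ x ∈ R, g * x * g⁻¹ ∈ S :=
  ⟨fun h x hx => h ⟨x, hx, rfl⟩, fun h => by rintro _ ⟨x, hx, rfl⟩; exact h x hx⟩

theorem Min.normalizer_ne_top (hm : Min π G) {S : Sylow 2 G} {R : Subgroup G} (hR : R ≤ (S : Subgroup G))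
    (hR1 : R ≠ ⊥) : normalizer (R : Set G) ≠ ⊤ := by
  haveI := hm.simple
  haveI : Fact (Nat.Prime 2) := ⟨Nat.prime_two⟩
  intro e
  have hn : R.Normal := normalizer_eq_top_iff.1 e
  have hRtop := hn.eq_bot_or_eq_top.resolve_left hR1
  have h2 : IsPGroup 2 G := (S.2.to_le (hRtop ▸ hR : (⊤ : Subgroup G) ≤ _)).of_equiv topEquiv
  exact hm.nab ⟨⟨IsSimpleGroup.comm_iff_isSolvable.2 (by haveI := h2.isNilpotent; infer_instance)⟩⟩

/-- `N(S)` controls the fusion in `S`. -/
theorem Min.control (hm : Min π G) (S : Sylow 2 G) :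
    ∀ R : Subgroup G, R ≤ (S : Subgroup G) → ∀ g : G, (∀ x ∈ R, g * x * g⁻¹ ∈ (S : Subgroup G)) →
      ∃ n ∈ normalizer ((S : Subgroup G) : Set G), ∀ x ∈ R, g * x * g⁻¹ = n * x * n⁻¹ := by
  haveI : Fact (Nat.Prime 2) := ⟨Nat.prime_two⟩
  suffices key : ∀ (d : ℕ) (R : Subgroup G), R ≤ (S : Subgroup G) →
      Nat.card (S : Subgroup G) - Nat.card R = d → ∀ g : G, (∀ x ∈ R, g * x * g⁻¹ ∈ (S : Subgroup G)) →
        ∃ n ∈ normalizer ((S : Subgroup G) : Set G), ∀ x ∈ R, g * x * g⁻¹ = n * x * n⁻¹ from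
    fun R hR => key _ R hR rfl
  intro d
  induction d using Nat.strong_induction_on with
  | _ d ih =>
  intro R hR hd g hg
  by_cases hRS : R = (S : Subgroup G)
  · subst hRS
    exact ⟨g, CentralFour.mem_normalizer_of_le hg, fun x _ => rfl⟩
  by_cases hR1 : R = ⊥
  · exact ⟨1, one_mem _, fun x hx => by rw [hR1, mem_bot] at hx; subst hx; group⟩
  have bigger : ∀ Q : Subgroup G, Q ≤ (S : Subgroup G) → Nat.card R < Nat.card Q → ∀ k : G,
      (∀ x ∈ Q, k * x * k⁻¹ ∈ (S : Subgroup G)) →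
      ∃ n ∈ normalizer ((S : Subgroup G) : Set G), ∀ x ∈ Q, k * x * k⁻¹ = n * x * n⁻¹ := fun Q hQ hlt k hk => by
    have := card_le_of_le hQ
    exact ih _ (by omega) Q hQ rfl k hk
  have hlt : ∀ {R' : Subgroup G}, R' ≤ (S : Subgroup G) → Nat.card R' = Nat.card R →
      Nat.card R < Nat.card (nS S R') := fun {R'} hle hc => by
    rw [← hc]
    have hne : R' ≠ (S : Subgroup G) := fun e => hRS (eq_of_le_of_card_ge hR (by rw [← hc, e]))
    have h1 := lt_nS (lt_of_le_of_ne hle hne)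
    exact lt_of_le_of_ne (card_le_of_le h1.le) fun e => h1.ne (eq_of_le_of_card_ge h1.le e.ge)
  -- every subgroup of the order of `R` is well placed
  have placed : ∀ {R' : Subgroup G}, R' ≤ (S : Subgroup G) → Nat.card R' = Nat.card R →
      ∃ T : Sylow 2 (normalizer (R' : Set G)), (T : Subgroup (normalizer (R' : Set G))).map (Subgroup.subtype _) =
        nS S R' := by
    intro R' hle hc
    set N' := normalizer (R' : Set G)
    obtain ⟨U, hU⟩ := ((nS_isPGroup S R').of_equiv (subgroupOfEquivOfLe (inf_le_right : nS S R' ≤ N')).symm).exists_le_sylow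
    obtain ⟨a, -, ha⟩ := CentralFour.exists_conj_into (P := S) (H := ⊤) le_top (U.2.map N'.subtype) le_top
    have hUS : ∀ x ∈ nS S R', x ∈ (U : Subgroup N').map N'.subtype := fun x hx =>
      ⟨⟨x, hx.2⟩, hU (mem_subgroupOf.2 hx), rfl⟩
    obtain ⟨n, hn, hna⟩ := bigger _ inf_le_left (hlt hle hc) a fun x hx => ha x (hUS x hx)
    refine ⟨U, le_antisymm (fun u hu => ?_) hUS⟩
    have huN : u ∈ N' := map_subtype_le _ hu
    refine ⟨?_, huN⟩
    have h1 : n⁻¹ * (a * u * a⁻¹) * n ∈ (S : Subgroup G) := by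
      simpa using CentralFour.conjOf_mem_normalizer (inv_mem hn) (ha u hu)
    have h2 : n⁻¹ * a ∈ centralizer (R' : Set G) := mem_centralizer_iff.2 fun x hx => by
      have e := hna x (le_nS hle hx)
      calc x * (n⁻¹ * a) = n⁻¹ * (n * x * n⁻¹) * a := by group
        _ = n⁻¹ * a * x := by rw [← e]; group
    set v := n⁻¹ * (a * u * a⁻¹) * n with hv
    have hvN : v ∈ N' := by
      have hc' : n⁻¹ * a ∈ N' := CentralFour.centralizer_le_normalizer' R' h2
      rw [show v = (n⁻¹ * a) * u * (n⁻¹ * a)⁻¹ by rw [hv]; group]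
      exact mul_mem (mul_mem hc' huN) (inv_mem hc')
    have hc' : n⁻¹ * a ∈ N' := CentralFour.centralizer_le_normalizer' R' h2
    set A := (U : Subgroup N').map N'.subtype
    have hAle : A.map (MulAut.conj (n⁻¹ * a)).toMonoidHom ≤ nS S R' := map_conj_le.2 fun w hw => ⟨by
        rw [show n⁻¹ * a * w * (n⁻¹ * a)⁻¹ = n⁻¹ * (a * w * a⁻¹) * n⁻¹⁻¹ by group]
        exact CentralFour.conjOf_mem_normalizer (inv_mem hn) (ha w hw),
      N'.mul_mem (N'.mul_mem hc' (map_subtype_le _ hw)) (N'.inv_mem hc')⟩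
    have hcA : Nat.card (A.map (MulAut.conj (n⁻¹ * a)).toMonoidHom) = Nat.card A :=
      card_map_of_injective (MulAut.conj (n⁻¹ * a)).injective
    have heq : nS S R' = A := eq_of_le_of_card_ge hUS (hcA ▸ card_le_of_le hAle)
    exact (heq ▸ hu : u ∈ nS S R').1
  set R' := R.map (MulAut.conj g).toMonoidHom
  have hR' : R' ≤ (S : Subgroup G) := map_conj_le.2 hg
  have hcR' : Nat.card R' = Nat.card R := card_map_of_injective (MulAut.conj g).injective
  set M := normalizer (R' : Set G) with hMdef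
  obtain ⟨T, hT⟩ : ∃ T : Sylow 2 M, (T : Subgroup M).map M.subtype = nS S R' := placed hR' hcR'
  -- carry `N_S(R)` into `N_S(R')`
  have hgM : ∀ y ∈ nS S R, g * y * g⁻¹ ∈ M := fun y hy => by
    refine CentralFour.mem_normalizer_of_le ?_
    rintro _ ⟨x, hx, rfl⟩
    exact ⟨y * x * y⁻¹, CentralFour.conjOf_mem_normalizer hy.2 hx, by
      show g * (y * x * y⁻¹) * g⁻¹ = g * y * g⁻¹ * (g * x * g⁻¹) * (g * y * g⁻¹)⁻¹
      group⟩
  set V := (nS S R).map (MulAut.conj g).toMonoidHom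
  have hVM : V ≤ M := map_conj_le.2 hgM
  obtain ⟨V', hV'⟩ := (((nS_isPGroup S R).map (MulAut.conj g).toMonoidHom).of_equiv (subgroupOfEquivOfLe hVM).symm).exists_le_sylow
  obtain ⟨c, hc⟩ := MulAction.exists_smul_eq M V' T
  have hcg : ∀ y ∈ nS S R, (c : G) * g * y * ((c : G) * g)⁻¹ ∈ nS S R' := fun y hy => by
    rw [← hT]
    refine ⟨MulAut.conj c ⟨g * y * g⁻¹, hgM y hy⟩, ?_, ?_⟩
    · rw [← hc, Sylow.coe_subgroup_smul]
      exact smul_mem_pointwise_smul _ (MulAut.conj c) _ (hV' (mem_subgroupOf.2 ⟨y, hy, rfl⟩))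
    · show (c : G) * (g * y * g⁻¹) * (c : G)⁻¹ = (c : G) * g * y * ((c : G) * g)⁻¹
      group
  obtain ⟨n, hn, hn'⟩ := bigger _ inf_le_left (hlt hR rfl) ((c : G) * g) fun y hy => (hcg y hy).1
  have hR'1 : R' ≠ ⊥ := fun e => hR1 ((map_eq_bot_iff_of_injective R (MulAut.conj g).injective).1 e)
  obtain ⟨o, m, hcom, hoM, ho, hmM, hmT⟩ := (hm.split (hm.normalizer_ne_top hR' hR'1) T).1 _ (inv_mem c.2)
  rw [hT] at hmT
  obtain ⟨n', hn₁, hn₁'⟩ := bigger _ inf_le_left (hlt hR' hcR') m fun y hy =>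
    (CentralFour.conjOf_mem_normalizer hmT hy).1
  refine ⟨n' * n, mul_mem hn₁ hn, fun x hx => ?_⟩
  have hoC : o ∈ centralizer (R' : Set G) :=
    hm.hyp.centralise (isPi_pGroup Nat.prime_two hm.hyp.two (S.2.to_le hR')) hoM ho
  have hcx : (c : G) * g * x * ((c : G) * g)⁻¹ = n * x * n⁻¹ := hn' x (le_nS hR hx)
  have hnx : n * x * n⁻¹ ∈ R' := by
    rw [← hcx, show (c : G) * g * x * ((c : G) * g)⁻¹ = (c : G) * (g * x * g⁻¹) * (c : G)⁻¹ by group]
    exact CentralFour.conjOf_mem_normalizer c.2 ⟨x, hx, rfl⟩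
  have e1 : n' * (n * x * n⁻¹) * n'⁻¹ = m * (n * x * n⁻¹) * m⁻¹ := (hn₁' _ (le_nS hR' hnx)).symm
  have hmR' : m * (n * x * n⁻¹) * m⁻¹ ∈ R' := CentralFour.conjOf_mem_normalizer hmM hnx
  calc g * x * g⁻¹ = (c : G)⁻¹ * ((c : G) * g * x * ((c : G) * g)⁻¹) * ((c : G)⁻¹)⁻¹ := by group
    _ = o * (m * (n * x * n⁻¹) * m⁻¹) * o⁻¹ := by rw [hcx, hcom]; group
    _ = n' * n * x * (n' * n)⁻¹ := by
      rw [← mem_centralizer_iff.1 hoC _ hmR', mul_inv_cancel_right, ← e1]; group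

end Cfsg.Lib.PiHomog
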