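import Cfsg.Agent.PiHomog.PSL
import Cfsg.Agent.BenderSE.Ring2.Tools
import Cfsg.Agent.Lyons.Three.Main
import Cfsg.Agent.InvolCalc.ZStarApps
import Cfsg.Agent.InvolCalc.Classes
import Cfsg.Agent.Walter.Main
import Cfsg.Agent.Walter.Consumers.Types
import Cfsg.Agent.FourGroupGW.Main

/-!
π-homogeneous groups with 2-closed π-subgroups are π′-closed, from Lyons's theorem (row 3258).
-/

set_option autoImplicit false
set_option linter.unusedSectionVars false
set_option linter.style.haveILetI false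

namespace Cfsg.Lib.PiHomog

open Subgroup Cfsg.Lib.BenderSE Cfsg.Lib.BenderSE.Ring2

universe u

variable {π : Set ℕ} {G : Type u} [Group G] [Finite G]

/-- The central elements of `S` of order at most two. -/
def Om (S : Sylow 2 G) : Subgroup G where
  carrier := {x | x ∈ (S : Subgroup G) ∧ x * x = 1 ∧ ∀ y ∈ (S : Subgroup G), y * x = x * y}
  one_mem' := ⟨one_mem _, one_mul 1, fun y _ => by rw [mul_one, one_mul]⟩
  mul_mem' := fun {a b} ha hb => ⟨mul_mem ha.1 hb.1, by
      rw [mul_assoc, ← mul_assoc b, ← ha.2.2 b hb.1 |>.symm, ← mul_assoc, ← mul_assoc, ha.2.1, one_mul, hb.2.1],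
    fun y hy => by rw [← mul_assoc, ha.2.2 y hy, mul_assoc, hb.2.2 y hy, mul_assoc]⟩
  inv_mem' := fun {a} ha => by
    rw [inv_eq_of_mul_eq_one_right ha.2.1]; exact ha

theorem mem_Om {S : Sylow 2 G} {x : G} :
    x ∈ Om S ↔ x ∈ (S : Subgroup G) ∧ x * x = 1 ∧ ∀ y ∈ (S : Subgroup G), y * x = x * y := Iff.rfl

theorem Om_le (S : Sylow 2 G) : Om S ≤ (S : Subgroup G) := fun _ hx => hx.1

theorem Om_comm (S : Sylow 2 G) : IsMulCommutative (Om S) := ⟨⟨fun a b => Subtype.ext (b.2.2.2 a a.2.1)⟩⟩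

theorem Om_pow (S : Sylow 2 G) : ∀ a ∈ Om S, a ^ 2 = 1 := fun a ha => by rw [pow_two]; exact ha.2.1

theorem conj_mem_Om {S : Sylow 2 G} {n x : G} (hn : n ∈ normalizer ((S : Subgroup G) : Set G)) (hx : x ∈ Om S) :
    n * x * n⁻¹ ∈ Om S := by
  refine ⟨CentralFour.conjOf_mem_normalizer hn hx.1, ?_, fun y hy => ?_⟩
  · rw [show n * x * n⁻¹ * (n * x * n⁻¹) = n * (x * x) * n⁻¹ by group, hx.2.1, mul_one, mul_inv_cancel]
  · have h1 := hx.2.2 (n⁻¹ * y * n⁻¹⁻¹) (CentralFour.conjOf_mem_normalizer (inv_mem hn) hy)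
    calc y * (n * x * n⁻¹) = n * (n⁻¹ * y * n⁻¹⁻¹ * x) * n⁻¹ := by group
      _ = n * (x * (n⁻¹ * y * n⁻¹⁻¹)) * n⁻¹ := by rw [h1]
      _ = n * x * n⁻¹ * y := by group

theorem Min.false_of_lyons (hLy : Lyons.LyonsProp.{u}) (hm : Min π G) : False := by
  haveI : Fact (Nat.Prime 2) := ⟨Nat.prime_two⟩
  haveI := hm.simple
  have heven : 2 ∣ Nat.card G := by
    by_contra hd
    have hodd : Odd (Nat.card G) := by rwa [← Nat.not_even_iff_odd, even_iff_two_dvd]
    haveI := Cfsg.Agent.PF.isSolvable_of_odd G hodd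
    exact hm.nab ⟨⟨IsSimpleGroup.comm_iff_isSolvable.2 inferInstance⟩⟩
  obtain ⟨S⟩ : Nonempty (Sylow 2 G) := inferInstance
  set W := Om S with hW
  obtain ⟨z, hz, hz1⟩ : ∃ z ∈ W, z ≠ 1 := by
    obtain ⟨i0, hi0⟩ := exists_prime_orderOf_dvd_card' 2 heven
    obtain ⟨a, -, ha⟩ := CentralFour.exists_conj_into (P := S) (H := ⊤) le_top
      (IsPGroup.of_card (n := 1) (by rw [Nat.card_zpowers, hi0, pow_one]) : IsPGroup 2 (zpowers i0)) le_top
    have hmem := ha i0 (mem_zpowers i0)
    haveI : Nontrivial (S : Subgroup G) := ⟨⟨⟨_, hmem⟩, 1, fun e => by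
      have := conj_eq_one_iff.1 (congrArg Subtype.val e)
      rw [this, orderOf_one] at hi0
      omega⟩⟩
    haveI := S.2.center_nontrivial
    obtain ⟨k, hk⟩ := IsPGroup.iff_card.1 (S.2.to_subgroup (center (S : Subgroup G)))
    obtain ⟨c, hc⟩ := exists_prime_orderOf_dvd_card' (G := center (S : Subgroup G)) 2 (by
      rw [hk]
      refine dvd_pow_self 2 fun h0 => ?_
      rw [h0, pow_zero] at hk
      exact absurd (Finite.one_lt_card_iff_nontrivial.2 inferInstance) (by rw [hk]; exact lt_irrefl 1))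
    refine ⟨((c : (S : Subgroup G)) : G), ⟨(c : (S : Subgroup G)).2, ?_, fun y hy => ?_⟩, fun e => ?_⟩
    · have h := pow_orderOf_eq_one c
      rw [hc] at h
      rw [← pow_two]
      exact congrArg (fun x : center (S : Subgroup G) => ((x : (S : Subgroup G)) : G)) h
    · exact congrArg Subtype.val (mem_center_iff.1 c.2 ⟨y, hy⟩)
    · rw [show c = 1 from Subtype.ext (Subtype.ext e), orderOf_one] at hc
      omega
  have hord : ∀ {x : G}, x ∈ W → x ≠ 1 → orderOf x = 2 := fun hx h1 =>
    InvolCalc.order_two_of_mul_self hx.2.1 h1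
  have hO : Cfsg.oddCore G = ⊥ := by
    refine ((inferInstance : (Cfsg.oddCore G).Normal).eq_bot_or_eq_top).resolve_right fun e => ?_
    have hodd := Cfsg.Lib.BenderSE.Ring2.odd_oddCore (G := G)
    rw [e, card_top] at hodd
    exact hodd.not_two_dvd_nat heven
  -- fusion of single elements, strong closure
  have hfus : ∀ x ∈ (S : Subgroup G), ∀ g : G, g * x * g⁻¹ ∈ (S : Subgroup G) →
      ∃ n ∈ normalizer ((S : Subgroup G) : Set G), g * x * g⁻¹ = n * x * n⁻¹ := fun x hx g hg => by
    obtain ⟨n, hn, h⟩ := hm.control S (zpowers x) (zpowers_le.2 hx) g fun y hy => by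
      obtain ⟨i, rfl⟩ := mem_zpowers_iff.1 hy
      rw [← conj_zpow]; exact zpow_mem hg i
    exact ⟨n, hn, h x (mem_zpowers x)⟩
  have hclosed : ∀ x ∈ W, ∀ g : G, g * x * g⁻¹ ∈ (S : Subgroup G) → g * x * g⁻¹ ∈ W := fun x hx g hg => by
    obtain ⟨n, hn, e⟩ := hfus x hx.1 g hg
    rw [e]; exact conj_mem_Om hn hx
  -- some element of odd order of `N(S)` moves `z`
  obtain ⟨m, hmn, hmo, hmz⟩ : ∃ m ∈ normalizer ((S : Subgroup G) : Set G), Odd (orderOf m) ∧ m * z * m⁻¹ ≠ z := by
    obtain ⟨n, hn, hnz⟩ : ∃ n ∈ normalizer ((S : Subgroup G) : Set G), n * z * n⁻¹ ≠ z := by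
      by_contra hall
      push Not at hall
      have hiso : Cfsg.IsIsolatedInvolution z := by
        refine ⟨hord hz hz1, fun g hg => InvolCalc.isolated_of_unique S (hord hz hz1) (fun g hg => ?_) hg⟩
        obtain ⟨n, hn, e⟩ := hfus z hz.1 g hg
        rw [e, hall n hn]
      have hcen : z ∈ center G := mem_center_iff.2 fun g => by
        have h1 : z * g * z⁻¹ * g⁻¹ ∈ Cfsg.oddCore G := ZStarApps.zstarProp hiso g
        rw [hO, mem_bot, mul_inv_eq_one, mul_inv_eq_iff_eq_mul] at h1
        exact h1.symm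
      rcases (inferInstance : (center G).Normal).eq_bot_or_eq_top with e | e
      · exact hz1 (mem_bot.1 (e ▸ hcen))
      · exact hm.nab ⟨⟨fun a b => (mem_center_iff.1 (e ▸ mem_top a : a ∈ center G) b).symm⟩⟩
    obtain ⟨p, hp, m, hm', hmo, rfl⟩ := CentralFour.normalizer_decomp S hn
    refine ⟨m, hm', hmo, fun e => hnz ?_⟩
    rw [show p * m * z * (p * m)⁻¹ = p * (m * z * m⁻¹) * p⁻¹ by group, e, hz.2.2 p hp, mul_inv_cancel_right]
  have hzm : m * z * m⁻¹ ∈ W := conj_mem_Om hmn hz
  have hzm1 : m * z * m⁻¹ ≠ 1 := fun e => hz1 (conj_eq_one_iff.1 e)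
  have hW4 : 4 ≤ Nat.card W := by
    by_contra hlt
    obtain ⟨k, hk⟩ := IsPGroup.iff_card.1 (S.2.to_le (Om_le S) : IsPGroup 2 W)
    have h2 : Nat.card W ≤ 2 := by
      rw [hk] at hlt ⊢
      rcases k with _ | _ | k
      · norm_num
      · norm_num
      · exact absurd (Nat.pow_le_pow_right two_pos (show 2 ≤ k + 2 by omega)) (by omega)
    have h3 : ({1, z, m * z * m⁻¹} : Set G).ncard = 3 :=
      Set.ncard_eq_three.2 ⟨1, z, _, hz1.symm, hzm1.symm, hmz.symm, rfl⟩
    have h4 := Set.ncard_le_ncard (t := (W : Set G))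
      (show ({1, z, m * z * m⁻¹} : Set G) ⊆ W by rintro y (rfl | rfl | rfl); exacts [one_mem _, hz, hzm])
      (Set.toFinite _)
    rw [h3, ← Nat.card_coe_set_eq] at h4
    have h5 : Nat.card (W : Set G) = Nat.card W := rfl
    omega
  have hrank : HasCommutingInvolutions G :=
    ⟨z, m * z * m⁻¹, hord hz hz1, hord hzm hzm1, hmz.symm, (hz.2.2 _ hzm.1).symm⟩
  by_cases h3r : Cfsg.PRankLE 2 2 G
  · -- rank two: three involutions
    have hWc : Nat.card W = 4 :=
      le_antisymm (h3r W (Om_comm S) (Om_pow S)) hW4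
    have hinv : ∀ t ∈ (S : Subgroup G), t * t = 1 → t ∈ W := by
      intro t ht ht2
      have hn : zpowers t ≤ normalizer (W : Set G) := zpowers_le.2 <|
        CentralFour.mem_normalizer_of_le fun w hw => by rw [hw.2.2 t ht, mul_inv_cancel_right]; exact hw
      set A := zpowers t ⊔ W
      have hA : ∀ a ∈ A, ∃ i : ℤ, ∃ w ∈ W, a = t ^ i * w := by
        intro a ha
        rw [← SetLike.mem_coe, coe_mul_of_left_le_normalizer_right _ _ hn] at ha
        obtain ⟨b, hb, w, hw, rfl⟩ := ha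
        obtain ⟨i, rfl⟩ := mem_zpowers_iff.1 hb
        exact ⟨i, w, hw, rfl⟩
      have hcm : ∀ a ∈ A, ∀ b ∈ A, Commute a b := by
        intro a ha b hb
        obtain ⟨i, w, hw, rfl⟩ := hA a ha
        obtain ⟨j, v, hv, rfl⟩ := hA b hb
        have hw' : ∀ n : ℤ, Commute (t ^ n) w := fun n => hw.2.2 _ (zpow_mem ht n)
        have hv' : ∀ n : ℤ, Commute (t ^ n) v := fun n => hv.2.2 _ (zpow_mem ht n)
        exact (((Commute.refl t).zpow_zpow i j).mul_right (hv' i)).mul_left
          ((hw' j).symm.mul_right (hv.2.2 w hw.1))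
      have h4 : Nat.card A ≤ 4 := h3r A ⟨⟨fun a b => Subtype.ext (hcm a a.2 b b.2).eq⟩⟩ fun a ha => by
        obtain ⟨i, w, hw, rfl⟩ := hA a ha
        rw [(show Commute (t ^ i) w from hw.2.2 _ (zpow_mem ht i)).mul_pow, pow_two w, hw.2.1, mul_one,
          pow_two, ← zpow_add, ← two_mul, zpow_mul, zpow_two, ht2, one_zpow]
      have heq : W = A := eq_of_le_of_card_ge le_sup_right (by rw [hWc]; exact h4)
      exact heq ▸ mem_sup_left (mem_zpowers t)
    by_cases hab : ∀ a ∈ (S : Subgroup G), ∀ b ∈ (S : Subgroup G), a * b = b * a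
    · -- a four-group
      have habS : ∀ U : Sylow 2 G, ∀ x ∈ (U : Subgroup G), ∀ y ∈ (U : Subgroup G), x * y = y * x := fun U => by
        obtain ⟨g, rfl⟩ := MulAction.exists_smul_eq G S U
        intro x hx y hy
        rw [Sylow.coe_subgroup_smul] at hx hy
        obtain ⟨a, ha, rfl⟩ := hx
        obtain ⟨b, hb, rfl⟩ := hy
        show MulAut.conj g a * MulAut.conj g b = MulAut.conj g b * MulAut.conj g a
        rw [← map_mul, ← map_mul, hab a ha b hb]
      have hel := Walter.Consumers.elem_of_typed (Walter.walterProp G hm.nab habS)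
        (fun U => ⟨⟨fun a b => Subtype.ext (habS U a a.2 b b.2)⟩⟩) S
      have hSW : (S : Subgroup G) = W := le_antisymm (fun x hx => hinv x hx (hel x hx)) (Om_le S)
      have hS4 : Nat.card (S : Subgroup G) = 4 := by rw [hSW, hWc]
      have hk : IsKleinFour (S : Subgroup G) := by
        refine IsKleinFour.mk hS4 ?_
        have hd : Monoid.exponent (S : Subgroup G) ∣ 2 := Monoid.exponent_dvd_of_forall_pow_eq_one fun a =>
          Subtype.ext (by push_cast; rw [pow_two]; exact hel a a.2)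
        rcases (Nat.dvd_prime Nat.prime_two).1 hd with h' | h'
        · have := Monoid.exp_eq_one_iff.1 h'
          have := (Finite.card_le_one_iff_subsingleton (α := (S : Subgroup G))).2 this
          omega
        · exact h'
      -- 3 lies in π
      have h3π : 3 ∈ π := by
        by_contra h3π
        haveI : Fact (Nat.Prime 3) := ⟨Nat.prime_three⟩
        have hmC : m ∉ centralizer ({z} : Set G) := fun e => hmz (by
          rw [mem_centralizer_singleton_iff.1 e, mul_inv_cancel_right])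
        set z₁ := m * z * m⁻¹ with hz₁
        set z₂ := m * z₁ * m⁻¹ with hz₂
        have hz₂W : z₂ ∈ W := conj_mem_Om hmn hzm
        have hz₂1 : z₂ ≠ 1 := fun e => hzm1 (conj_eq_one_iff.1 e)
        have h21 : z₂ ≠ z₁ := fun e => hmz (mul_left_cancel (mul_right_cancel e))
        have h20 : z₂ ≠ z := fun e => hmC (CentralFour.mem_of_pow_two hmo 1 (mem_centralizer_singleton_iff.2 (by
          refine mul_inv_eq_iff_eq_mul.1 ?_
          calc m ^ 2 ^ 1 * z * (m ^ 2 ^ 1)⁻¹ = m * (m * z * m⁻¹) * m⁻¹ := by rw [pow_one, pow_two]; group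
            _ = z := e)))
        have hall : ∀ y ∈ W, y = 1 ∨ y = z ∨ y = z₁ ∨ y = z₂ := by
          intro y hy
          by_contra hne
          simp only [not_or] at hne
          have h5 : ({1, z, z₁, z₂} : Set G).ncard = 4 :=
            Set.ncard_eq_four.2 ⟨1, z, z₁, z₂, hz1.symm, hzm1.symm, hz₂1.symm, hmz.symm, h20.symm, h21.symm, rfl⟩
          have hlt : ({1, z, z₁, z₂} : Set G) ⊂ (W : Set G) := by
            refine ⟨by rintro v (rfl | rfl | rfl | rfl); exacts [one_mem _, hz, hzm, hz₂W], fun hsub => ?_⟩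
            rcases hsub hy with e | e | e | e
            exacts [hne.1 e, hne.2.1 e, hne.2.2.1 e, hne.2.2.2 e]
          have h6 := Set.ncard_lt_ncard hlt (Set.toFinite _)
          rw [h5, ← Nat.card_coe_set_eq] at h6
          exact absurd hWc (Nat.ne_of_gt h6)
        have hm3 : m ^ 3 ∈ centralizer ({z} : Set G) := by
          refine mem_centralizer_singleton_iff.2 (mul_inv_eq_iff_eq_mul.1 ?_)
          rw [show m ^ 3 * z * (m ^ 3)⁻¹ = m * z₂ * m⁻¹ by
            rw [hz₂, hz₁]; simp only [pow_succ, pow_zero, one_mul]; group]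
          rcases hall _ (conj_mem_Om hmn hz₂W) with e | e | e | e
          · exact absurd (conj_eq_one_iff.1 e) hz₂1
          · exact e
          · exact absurd (mul_left_cancel (mul_right_cancel e)) h20
          · exact absurd (mul_left_cancel (mul_right_cancel e)) h21
        obtain ⟨a, b, ha, hb, hab', hak, hbc⟩ := Cfsg.Lib.Transfer.exists_pPart 3 m
        have haS : a ∈ normalizer ((S : Subgroup G) : Set G) := zpowers_le.2 hmn ha
        have haC := hm.hyp.hom _ (isPi_pGroup Nat.prime_two hm.hyp.two S.2) 3 Nat.prime_three h3π a haS hak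
        have hbC : b ∈ centralizer ({z} : Set G) := by
          obtain ⟨i, hi⟩ := mem_zpowers_iff.1 hb
          obtain ⟨j, hj⟩ := exists_pow_eq_self_of_coprime (n := 3) (x := b) hbc.symm
          rw [← hj, ← hi, ← zpow_natCast (m ^ i) 3, ← zpow_mul, mul_comm, zpow_mul, zpow_natCast]
          exact pow_mem (zpow_mem hm3 i) j
        refine hmC ?_
        rw [← hab']
        exact mul_mem (mem_centralizer_singleton_iff.2 (mem_centralizer_iff.1 haC z hz.1).symm) hbC
      obtain ⟨F, i1, i2, h8, h5, ⟨e⟩⟩ := Cfsg.Lib.GW.fourGroupProp G S hk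
      exact hm.hyp.not_psl h3π e h5 h8
    · push Not at hab
      have hcard : Nat.card {x : G // x ∈ (S : Subgroup G) ∧ x * x = 1} = 4 := by
        rw [← hWc]
        exact Nat.card_congr (Equiv.subtypeEquivRight fun x => ⟨fun h => hinv x h.1 h.2, fun h => ⟨h.1, h.2.1⟩⟩)
      have hU := Lyons.uFour_of_three S.2 hab (fun x hx hx2 y hy => (hinv x hx hx2).2.2 y hy) hcard hmn hmo
        hz.1 hz.2.1 hmz
      obtain ⟨H, hH⟩ := hLy G S hU
      exact hm.not_embedded hH hrank
  · -- rank at least three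
    obtain ⟨Z4, hZ4, hZ4c⟩ : ∃ Z4 : Subgroup G, Z4 ≤ W ∧ Nat.card Z4 = 4 := by
      obtain ⟨k, hk⟩ := IsPGroup.iff_card.1 (S.2.to_le (Om_le S) : IsPGroup 2 W)
      have h2 : 2 ^ 2 ∣ Nat.card W := by
        rw [hk]
        refine Nat.pow_dvd_pow 2 ?_
        by_contra hlt
        have : 2 ^ k ≤ 2 ^ 1 := Nat.pow_le_pow_right two_pos (by omega)
        omega
      obtain ⟨K, hK⟩ := Sylow.exists_subgroup_card_pow_prime 2 h2
      exact ⟨K.map W.subtype, map_subtype_le _, by rw [card_map_of_injective W.subtype_injective, hK]; norm_num⟩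
    have hconn : Cfsg.IsFourConnected (S : Subgroup G) := by
      intro U V hU hV
      set K := Z4.subgroupOf (S : Subgroup G)
      have hK : IsKleinFour K := by
        have hKc : Nat.card K = 4 := by
          rw [Nat.card_congr (subgroupOfEquivOfLe (hZ4.trans (Om_le S))).toEquiv, hZ4c]
        refine IsKleinFour.mk hKc ?_
        have hd : Monoid.exponent K ∣ 2 := Monoid.exponent_dvd_of_forall_pow_eq_one fun a =>
          Subtype.ext (Subtype.ext (by push_cast; exact Om_pow S _ (hZ4 (mem_subgroupOf.1 a.2))))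
        rcases (Nat.dvd_prime Nat.prime_two).1 hd with h' | h'
        · have := Monoid.exp_eq_one_iff.1 h'
          have := (Finite.card_le_one_iff_subsingleton (α := K)).2 this
          omega
        · exact h'
      have hc : ∀ a : (S : Subgroup G), ∀ b ∈ K, a * b = b * a := fun a b hb =>
        Subtype.ext ((hZ4 (mem_subgroupOf.1 hb)).2.2 a a.2)
      exact (Relation.ReflTransGen.single ⟨hU, hK, fun a _ b hb => hc a b hb⟩).tail
        ⟨hK, hV, fun a ha b _ => (hc b a ha).symm⟩
    have hC : ∀ t ∈ (S : Subgroup G), orderOf t = 2 → centralizer ({t} : Set G) ≤ normalizer (W : Set G) := by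
      intro t ht hto g hg
      have hne : centralizer ({t} : Set G) ≠ ⊤ := by
        intro e
        have hc : t ∈ center G := mem_center_iff.2 fun a => mem_centralizer_singleton_iff.1 (e ▸ mem_top a)
        rcases (inferInstance : (center G).Normal).eq_bot_or_eq_top with e' | e'
        · rw [e', mem_bot] at hc; rw [hc, orderOf_one] at hto; omega
        · exact hm.nab ⟨⟨fun a b => (mem_center_iff.1 (e' ▸ mem_top a : a ∈ center G) b).symm⟩⟩
      set C := centralizer ({t} : Set G) with hCdef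
      have hsol : ∀ s : G, orderOf s = 2 → Group.IsSolvable (centralizer ({s} : Set G)) := by
        intro s hs
        have hne' : centralizer ({s} : Set G) ≠ ⊤ := by
          intro e
          have hc : s ∈ center G := mem_center_iff.2 fun a => mem_centralizer_singleton_iff.1 (e ▸ mem_top a)
          rcases (inferInstance : (center G).Normal).eq_bot_or_eq_top with e' | e'
          · rw [e', mem_bot] at hc; rw [hc, orderOf_one] at hs; omega
          · exact hm.nab ⟨⟨fun a b => (mem_center_iff.1 (e' ▸ mem_top a : a ∈ center G) b).symm⟩⟩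
        obtain ⟨T⟩ : Nonempty (Sylow 2 (centralizer ({s} : Set G))) := inferInstance
        exact (hm.split hne' T).2
      have hch := charTwo_centralizer regProp hO h3r S hconn hsol hto
      obtain ⟨T, hT⟩ := ((S.2.to_le (inf_le_left : (S : Subgroup G) ⊓ C ≤ _)).of_equiv
        (subgroupOfEquivOfLe (inf_le_right : (S : Subgroup G) ⊓ C ≤ C)).symm).exists_le_sylow
      obtain ⟨o, n, hgon, hoC, ho, hnC, hnT⟩ := (hm.split hne T).1 g hg
      -- the π'-part is trivial
      have ho1 : o = 1 := by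
        set Q := (Cfsg.pCore 2 C).map C.subtype
        haveI : (Cfsg.pCore 2 C).Normal := Cfsg.Lib.Components.pCore_normal' 2
        have hQpi : IsPi π Q :=
          isPi_pGroup Nat.prime_two hm.hyp.two ((Cfsg.Lib.Components.isPGroup_pCore 2).map _)
        have hon : o ∈ normalizer (Q : Set G) :=
          le_normalizer_map C.subtype ⟨⟨o, hoC⟩, le_normalizer_of_normal (mem_top _), rfl⟩
        have hcen := hm.hyp.centralise hQpi hon ho
        have hmem : (⟨o, hoC⟩ : C) ∈ Cfsg.pCore 2 C := hch (mem_centralizer_iff.2 fun q hq =>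
          Subtype.ext (mem_centralizer_iff.1 hcen q (mem_map_of_mem C.subtype hq)))
        obtain ⟨k, hk⟩ := (Cfsg.Lib.Components.isPGroup_pCore 2) ⟨_, hmem⟩
        have hk' : o ^ 2 ^ k = 1 := congrArg (fun x : Cfsg.pCore 2 C => ((x : C) : G)) hk
        rw [← orderOf_eq_one_iff]
        by_contra h1
        obtain ⟨p, hp, hd⟩ := Nat.exists_prime_and_dvd h1
        have := (Nat.prime_dvd_prime_iff_eq hp Nat.prime_two).1 (hp.dvd_of_dvd_pow (hd.trans (orderOf_dvd_of_pow_eq_one hk')))
        exact ho p hp hd (this ▸ hm.hyp.two)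
      rw [ho1, one_mul] at hgon
      subst hgon
      set T' := (T : Subgroup C).map C.subtype
      obtain ⟨a, -, ha⟩ := CentralFour.exists_conj_into (P := S) (H := ⊤) le_top
        (T.2.map C.subtype : IsPGroup 2 T') le_top
      have hWT : ∀ w ∈ W, w ∈ T' := fun w hw => by
        have hwC : w ∈ C := mem_centralizer_singleton_iff.2 (hw.2.2 t ht).symm
        exact ⟨⟨w, hwC⟩, hT (mem_subgroupOf.2 ⟨hw.1, hwC⟩), rfl⟩
      have haW : a ∈ normalizer (W : Set G) :=
        CentralFour.mem_normalizer_of_le fun w hw => hclosed w hw a (ha w (hWT w hw))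
      refine CentralFour.mem_normalizer_of_le fun w hw => ?_
      have h1 : a * (g * w * g⁻¹) * a⁻¹ ∈ W := by
        have := hclosed w hw (a * g)
          (by rw [show a * g * w * (a * g)⁻¹ = a * (g * w * g⁻¹) * a⁻¹ by group]
              exact ha _ (CentralFour.conjOf_mem_normalizer hnT (hWT w hw)))
        rwa [show a * g * w * (a * g)⁻¹ = a * (g * w * g⁻¹) * a⁻¹ by group] at this
      exact (mem_normalizer_iff.1 haW _).2 h1
    have hSN : normalizer ((S : Subgroup G) : Set G) ≤ normalizer (W : Set G) := fun n hn =>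
      CentralFour.mem_normalizer_of_le fun w hw => conj_mem_Om hn hw
    have hfus' : ∀ t ∈ (S : Subgroup G), ∀ s ∈ (S : Subgroup G), orderOf t = 2 → ∀ g : G, g * t * g⁻¹ = s →
        ∃ n ∈ normalizer (W : Set G), n * t * n⁻¹ = s := by
      intro t ht s hs _ g hg
      obtain ⟨n, hn, e⟩ := hfus t ht g (hg ▸ hs)
      exact ⟨n, hSN hn, by rw [← e, hg]⟩
    rcases normal_or_embedded S (le_normalizer.trans hSN) (even_iff_two_dvd.2 heven) hC hfus' with e | e
    · exact hm.normalizer_ne_top (S := S) (Om_le S) (fun e' => hz1 (mem_bot.1 (e' ▸ hz))) e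
    · exact hm.not_embedded e hrank

/-- S3258 from Lyons's theorem. -/
theorem main (hLy : Lyons.LyonsProp.{u}) (π : Set ℕ) (h2 : 2 ∈ π)
    (hcl : ∀ H : Subgroup G, (∀ p : ℕ, p.Prime → p ∣ Nat.card ↥H → p ∈ π) → ∀ P : Sylow 2 ↥H,
      (P : Subgroup ↥H).Normal) :
    (∃ K : Subgroup G, ∀ x : G, x ∈ K ↔ ∀ p : ℕ, p.Prime → p ∣ orderOf x → p ∉ π) ↔
      (∀ H : Subgroup G, H ≠ ⊥ → (∀ p : ℕ, p.Prime → p ∣ Nat.card ↥H → p ∈ π) →
        ∀ p : ℕ, p.Prime → p ∣ (Subgroup.centralizer (H : Set G)).relIndex (Subgroup.normalizer (H : Set G)) →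
          p ∈ π) := by
  constructor
  · rintro ⟨K, hK⟩ H _ hH p hp hd
    by_contra hpπ
    haveI := Fact.mk hp
    set N := normalizer (H : Set G)
    set C := (centralizer (H : Set G)).subgroupOf N
    haveI : C.Normal := normal_subgroupOf_of_le_normalizer (CentralFour.normalizer_centralizer H)
    rw [relIndex, index_eq_card] at hd
    obtain ⟨q, hq⟩ := exists_prime_orderOf_dvd_card' (G := N ⧸ C) p hd
    obtain ⟨x, rfl⟩ := QuotientGroup.mk'_surjective C q
    obtain ⟨a, -, hfa, k, hk⟩ := exists_lift (QuotientGroup.mk' C) (p := p) (y := x) ⟨1, by rw [hq, pow_one]⟩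
    have haK : (a : G) ∈ K := (hK _).2 fun r hr hrd => by
      rw [orderOf_coe, hk] at hrd
      rwa [(Nat.prime_dvd_prime_iff_eq hr hp).1 (hr.dvd_of_dvd_pow hrd)]
    have hKn : ∀ g y : G, y ∈ K → g * y * g⁻¹ ∈ K := fun g y hy => (hK _).2 fun r hr hrd => (hK y).1 hy r hr (by
      rwa [show g * y * g⁻¹ = MulAut.conj g y from rfl, MulEquiv.orderOf_eq] at hrd)
    have haC : a ∈ C := mem_subgroupOf.2 <| mem_centralizer_iff.2 fun y hy => by
      set c := y * (a : G) * y⁻¹ * (a : G)⁻¹ with hc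
      have hcH : c ∈ H := by
        rw [hc, show y * (a : G) * y⁻¹ * (a : G)⁻¹ = y * ((a : G) * y⁻¹ * (a : G)⁻¹) by group]
        exact mul_mem hy (CentralFour.conjOf_mem_normalizer a.2 (inv_mem hy))
      have hcK : c ∈ K := mul_mem (hKn y _ haK) (inv_mem haK)
      have hc1 : c = 1 := orderOf_eq_one_iff.1 <| by
        by_contra h1
        obtain ⟨r, hr, hrd⟩ := Nat.exists_prime_and_dvd h1
        exact (hK c).1 hcK r hr hrd (hH r hr (hrd.trans (Subgroup.orderOf_dvd_natCard _ hcH)))
      exact mul_inv_eq_iff_eq_mul.1 (mul_inv_eq_one.1 hc1)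
    have hone : QuotientGroup.mk' C a = 1 := (QuotientGroup.eq_one_iff a).2 haC
    rw [← hfa, hone, orderOf_one] at hq
    exact hp.ne_one hq.symm
  · intro hhom
    refine closed_of_simple (π := π) (fun X _ _ _ hna hyp hp => Min.false_of_lyons hLy ⟨hyp, inferInstance, hna, hp⟩)
      G ⟨h2, hcl, fun H hH p hp hpπ x hx hk => ?_⟩
    by_cases hH1 : H = ⊥
    · exact mem_centralizer_iff.2 fun y hy => by
        rw [hH1, SetLike.mem_coe, mem_bot] at hy; rw [hy, one_mul, mul_one]
    by_contra hxC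
    set N := normalizer (H : Set G)
    set C := (centralizer (H : Set G)).subgroupOf N
    haveI : C.Normal := normal_subgroupOf_of_le_normalizer (CentralFour.normalizer_centralizer H)
    obtain ⟨k, hk⟩ := hk
    set q : N ⧸ C := ((⟨x, hx⟩ : N) : N ⧸ C)
    have hq1 : q ≠ 1 := fun e => hxC (mem_subgroupOf.1 ((QuotientGroup.eq_one_iff _).1 e))
    have hd : orderOf q ∣ p ^ k :=
      (orderOf_map_dvd (QuotientGroup.mk' C) _).trans (by rw [Subgroup.orderOf_mk, hk])
    obtain ⟨j, -, hj⟩ := (Nat.dvd_prime_pow hp).1 hd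
    have hj0 : j ≠ 0 := fun h0 => hq1 (orderOf_eq_one_iff.1 (by rw [hj, h0, pow_zero]))
    refine hpπ (hhom H hH1 hH p hp ?_)
    rw [relIndex, index_eq_card]
    exact ((dvd_pow_self p hj0).trans hj.symm.dvd).trans (orderOf_dvd_natCard q)

end Cfsg.Lib.PiHomog
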