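import Cfsg.Agent.PiHomog.Embedded
import Cfsg.Agent.Known.AutPSL2

/-!
`PSL(2, q)`, `q` congruent to 3 or 5 modulo 8, is no minimal counterexample.
-/

set_option autoImplicit false
set_option linter.unusedSectionVars false
set_option linter.style.haveILetI false

namespace Cfsg.Lib.PiHomog

open Subgroup Matrix Cfsg.Lib.Known.AutPSL2

universe u

variable {π : Set ℕ} {G : Type u} [Group G] [Finite G]
variable {F : Type} [Field F] [Fintype F]

local notation "SF" => Matrix.SpecialLinearGroup (Fin 2) F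
local notation "PF" => Matrix.ProjectiveSpecialLinearGroup (Fin 2) F
local notation "pr" => QuotientGroup.mk' (Subgroup.center (Matrix.SpecialLinearGroup (Fin 2) F))

theorem pr_eq_one {M : SF} (h : pr M = 1) :
    (M : Matrix (Fin 2) (Fin 2) F) 0 1 = 0 ∧ (M : Matrix (Fin 2) (Fin 2) F) 1 0 = 0 ∧
      (M : Matrix (Fin 2) (Fin 2) F) 0 0 = (M : Matrix (Fin 2) (Fin 2) F) 1 1 := by
  obtain ⟨c, -, hc⟩ := Matrix.SpecialLinearGroup.mem_center_iff.1 ((QuotientGroup.eq_one_iff M).1 h)
  rw [← hc]
  simp [Matrix.scalar_apply]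

theorem pr_orderOf {M : SF} {r : ℕ} [Fact r.Prime] (h1 : pr M ≠ 1) (hr : M ^ r = 1) : orderOf (pr M) = r :=
  orderOf_eq_prime (by rw [← map_pow, hr, map_one]) h1

/-- Transfer of a dihedral subgroup of `PSL(2, F)`. -/
theorem Hyp.no_inverted_equiv (h : Hyp π G) (e : G ≃* PF) {r : ℕ} (hr : r.Prime) (hr2 : r ≠ 2) (hrπ : r ∈ π)
    {y t : PF} (hy : orderOf y = r) (ht : orderOf t = 2) (hinv : t * y * t⁻¹ = y⁻¹) : False :=
  h.no_inverted hr hr2 hrπ (y := e.symm y) (t := e.symm t) (by rw [MulEquiv.orderOf_eq, hy])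
    (by rw [MulEquiv.orderOf_eq, ht]) (by rw [← map_inv, ← map_mul, ← map_mul, hinv, map_inv])

theorem Hyp.not_psl (h : Hyp π G) (h3π : 3 ∈ π) (e : G ≃* PF) (h5 : 5 ≤ Fintype.card F)
    (h8 : Fintype.card F % 8 = 3 ∨ Fintype.card F % 8 = 5) : False := by
  classical
  haveI : Fact (Nat.Prime 2) := ⟨Nat.prime_two⟩
  haveI : Fact (Nat.Prime 3) := ⟨Nat.prime_three⟩
  have hodd : Fintype.card F % 2 = 1 := by omega
  have h20 : (2 : F) ≠ 0 := by
    intro h2
    obtain ⟨p, hp⟩ := CharP.exists F
    obtain ⟨f, hpp, hF⟩ := FiniteField.card F p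
    have hp2 : p = 2 := by
      have hd : p ∣ 2 := (CharP.cast_eq_zero_iff F p 2).1 (by exact_mod_cast h2)
      exact (Nat.prime_dvd_prime_iff_eq hpp Nat.prime_two).1 hd
    rw [hp2] at hF
    have : Fintype.card F % 2 = 0 := by
      rw [hF]; exact Nat.mod_eq_zero_of_dvd (dvd_pow_self 2 f.pos.ne') |>.trans rfl
    omega
  have hneg : ∀ {c : F}, c = -c → c = 0 := fun {c} hc => by
    have : (2 : F) * c = 0 := by linear_combination hc
    exact (mul_eq_zero.1 this).resolve_left h20
  by_cases h30 : (3 : F) = 0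
  · -- the torus
    obtain ⟨p, hp⟩ := CharP.exists F
    obtain ⟨f, hpp, hF⟩ := FiniteField.card F p
    have hp3 : p = 3 :=
      (Nat.prime_dvd_prime_iff_eq hpp Nat.prime_three).1 ((CharP.cast_eq_zero_iff F p 3).1 (by exact_mod_cast h30))
    rw [hp3] at hF
    have hq8 : Fintype.card F % 8 = 3 := by
      refine h8.resolve_right fun h' => ?_
      rw [hF] at h'
      rcases Nat.even_or_odd (f : ℕ) with ⟨j, hj⟩ | ⟨j, hj⟩
      · rw [hj, ← two_mul, pow_mul, Nat.pow_mod] at h'; norm_num at h'
      · rw [hj, pow_succ, pow_mul, Nat.mul_mod, Nat.pow_mod] at h'; norm_num at h'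
    obtain ⟨r, hr, hrd⟩ := Nat.exists_prime_and_dvd (show (Fintype.card F - 1) / 2 ≠ 1 by omega)
    haveI := Fact.mk hr
    have hr2 : r ≠ 2 := by rintro rfl; omega
    have hcard : r ∣ Nat.card Fˣ := by
      rw [Nat.card_eq_fintype_card, Fintype.card_units]
      exact hrd.trans ⟨2, by omega⟩
    obtain ⟨a, ha⟩ := exists_prime_orderOf_dvd_card' r hcard
    have har : (a : F) ^ r = 1 := by
      rw [← Units.val_pow_eq_pow_val, ← ha, pow_orderOf_eq_one, Units.val_one]
    have ha1 : (a : F) * (a : F) ≠ 1 := fun h1 => by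
      have : orderOf a ∣ 2 := orderOf_dvd_of_pow_eq_one (Units.ext (by rw [pow_two, Units.val_mul, Units.val_one]; exact h1))
      rw [ha] at this
      exact hr2 ((Nat.prime_dvd_prime_iff_eq hr Nat.prime_two).1 this)
    let d : SF := ⟨!![(a : F), 0; 0, ((a⁻¹ : Fˣ) : F)], by simp [det_fin_two]⟩
    let w : SF := ⟨!![0, 1; -1, 0], by simp [det_fin_two]⟩
    have hd : ∀ n : ℕ, ((d ^ n : SF) : Matrix (Fin 2) (Fin 2) F) = !![(a : F) ^ n, 0; 0, ((a⁻¹ : Fˣ) : F) ^ n] := by
      intro n
      induction n with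
      | zero => simp [one_fin_two]
      | succ n ih =>
        rw [pow_succ, Matrix.SpecialLinearGroup.coe_mul, ih]
        ext i j; fin_cases i <;> fin_cases j <;> simp [d, Matrix.mul_apply, Fin.sum_univ_two, pow_succ]
    have hdr : d ^ r = 1 := by
      refine sl_ext ?_
      rw [hd, cone, har, ← Units.val_pow_eq_pow_val, inv_pow, ← ha, pow_orderOf_eq_one, inv_one, Units.val_one,
        one_fin_two]
    have hd1 : pr d ≠ 1 := fun h1 => by
      obtain ⟨-, -, h00⟩ := pr_eq_one h1
      simp [d] at h00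
      exact ha1 (by conv_lhs => arg 2; rw [h00]
                    exact mul_inv_cancel₀ a.ne_zero)
    have hy := pr_orderOf hd1 hdr
    have hw : orderOf (pr w) = 2 := by
      refine orderOf_eq_prime ?_ fun h1 => ?_
      · rw [← map_pow]
        refine (QuotientGroup.eq_one_iff _).2 (Matrix.SpecialLinearGroup.mem_center_iff.2 ⟨-1, by simp, ?_⟩)
        rw [pow_two, cmul]
        ext i j
        fin_cases i <;> fin_cases j <;>
          simp [w, Matrix.mul_apply, Fin.sum_univ_two, Matrix.scalar_apply]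
      · obtain ⟨h01, -, -⟩ := pr_eq_one h1
        simp [w] at h01
    have hinv : pr w * pr d * (pr w)⁻¹ = (pr d)⁻¹ := by
      rw [mul_inv_eq_iff_eq_mul, eq_inv_mul_iff_mul_eq, ← map_mul, ← map_mul]
      refine congrArg _ (sl_ext ?_)
      rw [cmul, cmul]
      ext i j
      fin_cases i <;> fin_cases j <;> simp [w, d, Matrix.mul_apply, Fin.sum_univ_two]
    by_cases hrπ : r ∈ π
    · exact h.no_inverted_equiv e hr hr2 hrπ hy hw hinv
    -- the torus normalises the unipotent group
    set U : Subgroup G := ((u : Multiplicative F →* PF).range).map e.symm.toMonoidHom with hU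
    have hUpi : IsPi π U := by
      intro q hq hqd
      have hc : Nat.card U = 3 ^ (f : ℕ) := by
        rw [hU, card_map_of_injective e.symm.injective, ← Nat.card_congr (MonoidHom.ofInjective u_injective).toEquiv,
          Nat.card_congr Multiplicative.toAdd, Nat.card_eq_fintype_card, hF]
      rw [hc] at hqd
      rwa [(Nat.prime_dvd_prime_iff_eq hq Nat.prime_three).1 (hq.dvd_of_dvd_pow hqd)]
    have hconj : ∀ x : F, pr d * pr (uS x) * (pr d)⁻¹ = pr (uS ((a : F) * a * x)) := fun x => by
      rw [mul_inv_eq_iff_eq_mul, ← map_mul, ← map_mul]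
      refine congrArg _ (sl_ext ?_)
      rw [cmul, cmul]
      ext i j
      fin_cases i <;> fin_cases j <;> simp [d, coe_uS, Matrix.mul_apply, Fin.sum_univ_two]
      rw [mul_assoc ((a : F) * a), mul_comm x, ← mul_assoc, mul_inv_cancel_right₀ a.ne_zero]
    have hn : e.symm (pr d) ∈ normalizer (U : Set G) := CentralFour.mem_normalizer_of_le fun z hz => by
      obtain ⟨_, ⟨x, rfl⟩, rfl⟩ := hz
      refine ⟨u (Multiplicative.ofAdd ((a : F) * a * x.toAdd)), ⟨_, rfl⟩, ?_⟩
      show e.symm (pr (uS ((a : F) * a * x.toAdd))) = e.symm (pr d) * e.symm (pr (uS x.toAdd)) * (e.symm (pr d))⁻¹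
      rw [← hconj, map_mul, map_mul, map_inv]
    have hc := h.hom U hUpi r hr hrπ _ hn ⟨1, by rw [MulEquiv.orderOf_eq, hy, pow_one]⟩
    have h1 := mem_centralizer_iff.1 hc (e.symm (pr (uS 1))) ⟨_, ⟨Multiplicative.ofAdd (1 : F), rfl⟩, rfl⟩
    have h2 : pr (uS 1) * pr d = pr d * pr (uS 1) := e.symm.injective (by rw [map_mul, map_mul]; exact h1)
    have h3 := hconj 1
    rw [← h2, mul_inv_cancel_right, mul_one] at h3
    exact ha1 (uS_injective_π h3).symm
  · -- an element of order three inverted by an involution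
    obtain ⟨x, v, hxv⟩ := FiniteField.exists_root_sum_quadratic (R := F)
      (f := Polynomial.X ^ 2 + Polynomial.C 1) (g := Polynomial.C 3 * Polynomial.X ^ 2)
      (Polynomial.degree_X_pow_add_C two_pos 1)
      (by rw [Polynomial.degree_C_mul_X_pow 2 h30]; rfl) hodd
    simp only [Polynomial.eval_add, Polynomial.eval_pow, Polynomial.eval_X, Polynomial.eval_C,
      Polynomial.eval_mul] at hxv
    let J : SF := ⟨!![x - v, 2 * v; x + v, -(x - v)], by rw [det_fin_two_of]; linear_combination (-1 : F) * hxv⟩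
    let M : SF := ⟨!![0, -1; 1, -1], by simp [det_fin_two]⟩
    have hM3 : M ^ 3 = 1 := sl_ext (by
      rw [pow_succ, pow_two, cmul, cmul, cone]
      ext i j; fin_cases i <;> fin_cases j <;> simp [M, Matrix.mul_apply, Fin.sum_univ_two, one_fin_two])
    have hy := pr_orderOf (r := 3) (fun h1 => by
      obtain ⟨h01, -, -⟩ := pr_eq_one h1
      simp [M] at h01) hM3
    have ht : orderOf (pr J) = 2 := by
      refine orderOf_eq_prime ?_ fun h1 => ?_
      · rw [← map_pow]
        refine (QuotientGroup.eq_one_iff _).2 (Matrix.SpecialLinearGroup.mem_center_iff.2 ⟨-1, by simp, ?_⟩)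
        rw [pow_two, cmul]
        ext i j
        fin_cases i <;> fin_cases j <;>
          simp [J, Matrix.mul_apply, Fin.sum_univ_two, Matrix.scalar_apply] <;>
          first | linear_combination hxv | linear_combination (-1 : F) * hxv | ring
      · obtain ⟨h01, h10, h00⟩ := pr_eq_one h1
        simp [J] at h01 h10 h00
        have hv : v = 0 := by
          rcases h01 with h' | h'
          exacts [absurd h' h20, h']
        subst hv
        have hx0 : x = 0 := by simpa using h10
        subst hx0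
        simp at hxv
    have hinv : pr J * pr M * (pr J)⁻¹ = (pr M)⁻¹ := by
      rw [mul_inv_eq_iff_eq_mul, eq_inv_mul_iff_mul_eq, ← map_mul, ← map_mul]
      refine congrArg _ (sl_ext ?_)
      rw [cmul, cmul]
      ext i j
      fin_cases i <;> fin_cases j <;> simp [J, M, Matrix.mul_apply, Fin.sum_univ_two] <;> ring
    exact h.no_inverted_equiv e Nat.prime_three (by norm_num) h3π hy ht hinv

end Cfsg.Lib.PiHomog
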